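import Cfsg.Agent.UGT.A7.BThree.Zero
import Cfsg.Agent.PermParts.Consumer

/-!
# World 3 of the β-branch of [A7]: the end (9)

* `world3 : World3 G`.
-/

set_option autoImplicit false
set_option linter.unusedSectionVars false

open Cfsg Subgroup Equiv Equiv.Perm
open Cfsg.Agent.UAlt
open Cfsg.Agent.SignalizersComponents Cfsg.Agent.Lib
open Cfsg.Agent.SignalizersComponents.IntrinsicBasic
open Cfsg.Agent.Intrinsic.Basic Cfsg.Agent.Intrinsic.Cen Cfsg.Agent.Intrinsic.Diag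
open Cfsg.Agent.UGT.Triple Cfsg.Agent.UGT.TriBase
open Cfsg.Agent.UGT.A7.B.One
open Cfsg.Agent.UGT.A7.B (Fam TrivUp DiagUp F1 WW DP A1 AA FS)
open scoped commutatorElement

namespace Cfsg.Agent.UGT.A7.BThree

universe u

variable {G : Type u} [Group G] [Finite G]

/-- the family of the elements of the kernels of the Sylow 2-subgroups on their parts -/
def Fm (D : Set G) : Set G := {x | ∃ (S : Sylow 2 G) (𝔓 : Set (Subgroup G)), PS D (S : Subgroup G) 𝔓 ∧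
  x ∈ (S : Subgroup G) ∧ ∀ P ∈ 𝔓, cj x P = P}

namespace W3

variable {D : Set G} (W : W3 D)

include W

/-- independence of the Sylow 2-subgroup -/
theorem fm_fix {x : G} (hx : x ∈ Fm D) {S : Sylow 2 G} {𝔓 : Set (Subgroup G)} (H : PS D (S : Subgroup G) 𝔓)
    (hxS : x ∈ (S : Subgroup G)) : ∀ P ∈ 𝔓, cj x P = P := by
  obtain ⟨S₀, 𝔓₀, H₀, hx₀, hfix⟩ := hx
  obtain ⟨g, hg⟩ := MulAction.exists_smul_eq G S S₀
  have hgS : cj g (S : Subgroup G) = (S₀ : Subgroup G) := by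
    rw [← hg]
    rfl
  have h1 := H.cj W.conj g
  rw [hgS] at h1
  have h2 := h1.unique W H₀
  obtain ⟨n, hn⟩ := pw_of H₀.two hx₀
  have hgx : g * x * g⁻¹ ∈ (S₀ : Subgroup G) := by
    rw [← hgS]
    exact conj_mem_cj hxS
  intro P hP
  have h3 := W.zero H₀ n x g hn hx₀ hfix hgx (cj g P) (by rw [← h2]; exact ⟨P, hP, rfl⟩)
  have h4 : cj (g * x * g⁻¹) (cj g P) = cj g (cj x P) := by
    rw [← cj_mul, ← cj_mul]
    congr 1
    group
  rw [h4] at h3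
  exact cj_injective g h3

theorem fm_closed : Cfsg.Agent.TwoFusion.ClosedFam.IsClosedFam (Fm D) where
  one_mem := by
    obtain ⟨S, 𝔓, H⟩ := W.exists_ps
    exact ⟨S, 𝔓, H, one_mem _, fun P _ => cj_one P⟩
  conj_mem := by
    rintro x ⟨S, 𝔓, H, hx, hfix⟩ g
    refine ⟨g • S, cj g '' 𝔓, H.cj W.conj g, conj_mem_cj hx, ?_⟩
    rintro _ ⟨P, hP, rfl⟩
    have h4 : cj (g * x * g⁻¹) (cj g P) = cj g (cj x P) := by
      rw [← cj_mul, ← cj_mul]
      congr 1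
      group
    rw [h4, hfix P hP]
  two := by
    rintro x ⟨S, 𝔓, H, hx, hfix⟩
    exact pw_of H.two hx
  mul_mem := by
    intro Q hQ x hx y hy hxF hyF
    obtain ⟨S, 𝔓, hQS, H⟩ := W.ps_ge hQ
    refine ⟨S, 𝔓, H, mul_mem (hQS hx) (hQS hy), fun P hP => ?_⟩
    rw [cj_mul, W.fm_fix hyF H (hQS hy) P hP, W.fm_fix hxF H (hQS hx) P hP]

theorem data {S : Sylow 2 G} {𝔓 : Set (Subgroup G)} (H : PS D (S : Subgroup G) 𝔓) :
    Cfsg.Agent.PermParts.OfProd.Data (Fm D) S (fun P : 𝔓 => (P : Subgroup G)) where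
  fam := W.fm_closed
  le := by
    rintro ⟨P, hP⟩ x hx
    refine ⟨⟨S, 𝔓, H, H.le P hP hx, fun Q hQ => ?_⟩, H.le P hP hx⟩
    by_cases h1 : Q = P
    · subst h1
      exact cj_eq_self_of_mem hx
    · obtain ⟨z, hz⟩ := H.dih Q hQ
      exact H.fix_part W (cj_eq_self_of_mem (H.le P hP hx)) hQ hz.mem hz.ne
        (H.comm hP hQ (Ne.symm h1) hx hz.mem)
  norm := by
    rintro ⟨P, hP⟩ x hx q hq hqF
    have h1 := conj_mem_cj (g := q) hx
    rwa [W.fm_fix hqF H hq P hP] at h1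
  indep := by
    rintro ⟨P, hP⟩ x hx hsup
    by_contra hx1
    obtain ⟨d, hd, hdd, h1⟩ := H.exists_D hP hx hx1
    have h2 : d ∈ P ∧ d ∈ (⨆ j : {j : 𝔓 // j ≠ ⟨P, hP⟩}, (j : Subgroup G) : Subgroup G) := by
      rcases h1 with rfl | rfl
      · exact ⟨hx, hsup⟩
      · exact ⟨P.mul_mem hx hx, mul_mem hsup hsup⟩
    have h3 : (⨆ j : {j : 𝔓 // j ≠ ⟨P, hP⟩}, (j : Subgroup G) : Subgroup G) ≤ sSup {K | Fam d K} := by
      refine iSup_le ?_
      rintro ⟨⟨Q, hQ⟩, hne⟩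
      obtain ⟨M, hM, hQM⟩ := H.memb P hP Q hQ (fun h => hne (Subtype.ext h.symm)) d h2.1 hd
      exact hQM.trans (le_sSup (show M ∈ {K | Fam d K} from hM))
    exact BProd.not_mem (W.inv d hd) (fun K hK => hK.comp)
      (fun K hK z hz hf => B.mem_core_of_fixes hK.a7 hz hf) (h3 h2.2)
  closed := by
    rintro ⟨P, hP⟩ x hx g hg
    obtain ⟨Q, hQ, h1⟩ := H.closed W hP hx hg
    exact ⟨⟨Q, hQ⟩, h1⟩

/-- World 3 is impossible -/
theorem false_of [IsSimpleGroup G] : False := by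
  obtain ⟨S, 𝔓, H⟩ := W.exists_ps
  obtain ⟨P, hP, -, -⟩ := H.three ⊥ ⊥
  obtain ⟨Q, hQ, hQP, -⟩ := H.three P P
  obtain ⟨z, hz⟩ := H.dih P hP
  obtain ⟨z', hz'⟩ := H.dih Q hQ
  have h1 := Cfsg.Agent.PermParts.Consumer.eq_of_data (W.data H) (by
    rintro ⟨R, hR⟩ x hx hx2
    obtain ⟨y, hy⟩ := H.dih R hR
    by_cases h2 : x = y
    · obtain ⟨u, hu, huu, hu1, huy⟩ := hy.ex
      refine ⟨u, hu, ord2 huu hu1, by rw [h2]; exact huy, ?_⟩
      rw [h2]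
      exact hy.cen u hu
    · exact ⟨y, hy.mem, ord2 hy.sq hy.ne, Ne.symm h2, (hy.cen x hx).symm⟩)
    (i := ⟨P, hP⟩) (j := ⟨Q, hQ⟩) hz.ne_bot hz'.ne_bot
  exact hQP (congrArg Subtype.val h1).symm

end W3

/-- **World 3** -/
theorem world3 : B.World3 G := by
  intro hS h1 h2 h3 D hA
  exact W3.false_of (D := D)
    { toAA := hA
      f1 := h1
      dp := h3
      c2 := fun f e M hM he hef => B.c2 h1 h2 h3 D hA.toA1 e he f M hM hef }

end Cfsg.Agent.UGT.A7.BThree
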