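import Cfsg.Agent.UGT.A7.BThree.Dih
import Cfsg.Agent.UGT.A7.BProd

/-!
# World 3 of the β-branch of [A7]: basic facts on the members of `U(s)` and their pump-ups
-/

set_option autoImplicit false
set_option linter.unusedSectionVars false

open Cfsg Subgroup Equiv Equiv.Perm
open Cfsg.Agent.UAlt
open Cfsg.Agent.SignalizersComponents Cfsg.Agent.Lib
open Cfsg.Agent.SignalizersComponents.IntrinsicBasic
open Cfsg.Agent.Intrinsic.Basic Cfsg.Agent.Intrinsic.Cen Cfsg.Agent.Intrinsic.Diag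
open Cfsg.Agent.UGT.Triple Cfsg.Agent.UGT.TriBase
open Cfsg.Agent.UGT.A7.B.One
open Cfsg.Agent.UGT.A7.B (Fam TrivUp DiagUp F1 WW DP A1 AA FS)
open scoped commutatorElement

namespace Cfsg.Agent.UGT.A7.BThree

variable {G : Type*} [Group G] [Finite G]

/-! ### members of `U(s)` -/

section fam

variable {s : G} {K K' : Subgroup G}

theorem fam_lab (h : Fam s K) : Nonempty (Lab K) := h.a7

theorem fam_cj (h : Fam s K) (g : G) : Fam (g * s * g⁻¹) (cj g K) where
  inv := by
    rw [← h.inv]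
    exact (MulAut.conj g).orderOf_eq s
  comp := by
    have := h.comp.cj g
    rwa [cj_centralizer] at this
  a7 := by
    obtain ⟨M⟩ := h.a7
    exact ⟨M.cj g⟩
  bad := by
    intro l hl hl2
    have h1 : g⁻¹ * l * g ∈ K := mem_cj.1 hl
    have h2 : orderOf (g⁻¹ * l * g) = 2 := by
      rw [← hl2]
      have := (MulAut.conj g⁻¹).orderOf_eq l
      simpa using this
    have h3 := (h.bad _ h1 h2).cj g
    have h4 : g * (g⁻¹ * l * g) * g⁻¹ = l := by group
    rwa [h4] at h3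

theorem conj_self {g s : G} (hg : g * s = s * g) : g * s * g⁻¹ = s := by rw [hg, mul_inv_cancel_right]

theorem fam_cj' (h : Fam s K) {g : G} (hg : g * s = s * g) : Fam s (cj g K) := by
  have := fam_cj h g
  rwa [conj_self hg] at this

theorem fam_sq (h : Fam s K) : s * s = 1 := sq_of_order h.inv

theorem fam_ne (h : Fam s K) : s ≠ 1 := ne_one_of_order h.inv

theorem fam_comm (h : Fam s K) {x : G} (hx : x ∈ K) : x * s = s * x := comm_c (h.comp.le hx)

theorem fam_self (h : Fam s K) : Fixes s K := fixes_self' h.comp.le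

/-- an element of one member is trivial on the others -/
theorem fam_fix (h : Fam s K) (h' : Fam s K') (hne : K ≠ K') {x : G} (hx : x ∈ K) : Fixes x K' :=
  h'.comp.fixes_of_mem h.comp (Ne.symm hne) hx

theorem fam_not_fix (h : Fam s K) {x : G} (hx : x ∈ K) {n : ℕ} (hn : x ^ 2 ^ n = 1) (h1 : x ≠ 1) :
    ¬ Fixes x K := by
  intro hf
  obtain ⟨M⟩ := h.a7
  exact h1 (eq_one_of_lab M hx hn ((M.fixes_iff (le_normalizer hx)).2 hf))

theorem fam_uniq (h : Fam s K) (h' : Fam s K') {x : G} (hx : x ∈ K) (hx' : x ∈ K') {n : ℕ}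
    (hn : x ^ 2 ^ n = 1) (h1 : x ≠ 1) : K = K' := by
  by_contra hne
  exact fam_not_fix h' hx' hn h1 (fam_fix h h' hne hx)

theorem fam_norm (h : Fam s K) {g x : G} (hg : g * s = s * g) (hx : x ∈ K) (hgx : g * x * g⁻¹ ∈ K)
    {n : ℕ} (hn : x ^ 2 ^ n = 1) (h1 : x ≠ 1) : cj g K = K := by
  refine fam_uniq (fam_cj' h hg) h (conj_mem_cj hx) hgx (n := n) ?_ ?_
  · rw [conj_pow, hn, mul_one, mul_inv_cancel]
  · intro h2
    apply h1
    calc x = g⁻¹ * (g * x * g⁻¹) * g := by group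
      _ = 1 := by rw [h2]; group

theorem ord2 {x : G} (h : x * x = 1) (h1 : x ≠ 1) : orderOf x = 2 :=
  orderOf_eq_prime (by rw [pow_two, h]) h1

theorem sq_pow {x : G} (h : x * x = 1) : x ^ 2 ^ 1 = 1 := by rw [pow_one, pow_two, h]

end fam

/-! ### trivial pump-ups -/

/-- `N ∈ U(t)` is the trivial pump-up of `K ∈ U(s)` -/
structure Up (s t : G) (K N : Subgroup G) : Prop where
  fs : Fam s K
  ft : Fam t N
  comm : t * s = s * t
  fix : Fixes t K
  up : TrivUp s t K N

namespace Up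

variable {s t : G} {K N : Subgroup G}

theorem ts (h : Up s t K N) : t ∈ centralizer ({s} : Set G) := mem_c h.comm

theorem st (h : Up s t K N) : s ∈ centralizer ({t} : Set G) := mem_c h.comm.symm

theorem cen_comp (h : Up s t K N) :
    IsComp (centralizer ({s} : Set G) ⊓ centralizer ({t} : Set G)) (cen K t) ∧ cen K t ⊔ core K = K :=
  isComp_cen h.fs.comp h.ts (fam_sq h.ft) h.fix

theorem cen_comp' (h : Up s t K N) :
    IsComp (centralizer ({t} : Set G) ⊓ centralizer ({s} : Set G)) (cen N s) ∧ cen N s ⊔ core N = N :=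
  isComp_cen h.ft.comp h.st (fam_sq h.fs) h.up.fix

theorem cen_eq (h : Up s t K N) : cen K t = cen N s := by
  have h1 : cen K t ≤ cen N s := by
    have h2 : PComponents.pElem 2 (cen K t) = cen K t := h.cen_comp.1.pElem_eq
    rw [← h2]
    refine PComponents.pElem_mono (le_inf h.up.le ?_)
    exact (cen_le K t).trans h.fs.comp.le
  refine IsComp.eq_of_le h.cen_comp.1 ?_ h1
  have := h.cen_comp'.1
  rwa [inf_comm] at this

theorem symm (h : Up s t K N) : Up t s N K where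
  fs := h.ft
  ft := h.fs
  comm := h.comm.symm
  fix := h.up.fix
  up := ⟨h.fix, by rw [← h.cen_eq]; exact cen_le K t, by rw [← h.cen_eq]; exact h.cen_comp.2⟩

theorem mem (h : Up s t K N) {x : G} (hx : x ∈ K) (hxt : x * t = t * x) {n : ℕ} (hn : x ^ 2 ^ n = 1) : x ∈ N :=
  h.up.le (mem_cen hx hxt hn)

theorem norm_iff (h : Up s t K N) {g : G} (hgs : g * s = s * g) (hgt : g * t = t * g) :
    cj g K = K ↔ cj g N = N := by
  have key : ∀ {s t : G} {K N : Subgroup G}, Up s t K N → g * s = s * g → g * t = t * g → cj g K = K → cj g N = N := by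
    intro s t K N h hgs hgt hK
    have h1 : cj g (cen K t) = cen K t := by rw [cj_cen, hK, conj_self hgt]
    refine IsComp.unique h.cen_comp.1 (fam_cj' h.ft hgt).comp h.ft.comp ?_ h.up.le
    rw [← h1]
    exact cj_mono h.up.le
  exact ⟨key h hgs hgt, key h.symm hgt hgs⟩

theorem fix_iff (h : Up s t K N) {g : G} (hgs : g * s = s * g) (hgt : g * t = t * g) :
    Fixes g K ↔ Fixes g N := by
  have key : ∀ {s t : G} {K N : Subgroup G}, Up s t K N → g * s = s * g → g * t = t * g → Fixes g K → Fixes g N := by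
    intro s t K N h hgs hgt hK
    have h1 : cj g K = K := mem_normalizer_iff_cj.1 hK.1
    have h2 : cj g N = N := (h.norm_iff hgs hgt).1 h1
    have h3 : g ∈ normalizer (cen K t : Set G) := mem_normalizer_cen hK.1 hgt
    exact (fixes_iff_of_sup h.up.sup h3 (mem_normalizer_iff_cj.2 h2)).1
      ((fixes_iff_of_sup h.cen_comp.2 h3 hK.1).2 hK)
  exact ⟨key h hgs hgt, key h.symm hgt hgs⟩

theorem cj (h : Up s t K N) (g : G) :
    Up (g * s * g⁻¹) (g * t * g⁻¹) (IntrinsicBasic.cj g K) (IntrinsicBasic.cj g N) where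
  fs := fam_cj h.fs g
  ft := fam_cj h.ft g
  comm := by
    calc g * t * g⁻¹ * (g * s * g⁻¹) = g * (t * s) * g⁻¹ := by group
      _ = g * (s * t) * g⁻¹ := by rw [h.comm]
      _ = _ := by group
  fix := h.fix.cj g
  up := ⟨h.up.fix.cj g, by rw [← cj_cen]; exact cj_mono h.up.le, by
    rw [← cj_cen, core_cj]
    have := congrArg (IntrinsicBasic.cj g) h.up.sup
    rwa [IntrinsicBasic.cj_def, Subgroup.map_sup] at this⟩

theorem uniq (h : Up s t K N) {K' : Subgroup G} (h' : Up s t K' N) : K = K' := by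
  refine IsComp.unique h.cen_comp.1 h.fs.comp h'.fs.comp (cen_le K t) ?_
  rw [h.cen_eq, ← h'.cen_eq]
  exact cen_le K' t

theorem uniq' (h : Up s t K N) {N' : Subgroup G} (h' : Up s t K N') : N = N' := h.symm.uniq h'.symm

end Up

/-! ### the setting of World 3 -/

/-- the setting of World 3 -/
structure W3 (D : Set G) : Prop extends AA D where
  f1 : F1 G
  dp : DP G
  c2 : ∀ (f e : G) (M : Subgroup G), Fam f M → e ∈ D → e * f = f * e → cj e M = M

namespace W3

variable {D : Set G} (W : W3 D)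

include W

/-- the pump-ups of members of `U(s)`, `s ∈ D` -/
theorem up {s t : G} {K : Subgroup G} (hs : s ∈ D) (h : Fam s K) (ht : orderOf t = 2) (hts : t * s = s * t)
    (hf : Fixes t K) : ∃ N, Up s t K N := by
  obtain ⟨N, hN, h1 | h1⟩ := W.f1 s t K h ht hts hf
  · exact ⟨N, h, hN, hts, hf, h1⟩
  · exact (h1.ne (W.c2 t s N hN hs hts.symm)).elim

theorem a1 {e m : G} {N N' : Subgroup G} (he : e ∈ D) (h : Fam e N) (h' : Fam e N') (hne : N' ≠ N) (hm : m ∈ N)
    (hm2 : orderOf m = 2) : ∃ X, Up e m N' X := by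
  obtain ⟨X, h1, h2⟩ := W.triv e he N N' h h' hne m hm hm2
  exact ⟨X, h', h1, fam_comm h hm, fam_fix h h' hne.symm hm, h2⟩

theorem alls {e m : G} {N X : Subgroup G} (he : e ∈ D) (h : Fam e N) (hm : m ∈ N)
    (hm2 : orderOf m = 2) (hX : Fam m X) : e ∈ X ∨ ∃ N', N' ≠ N ∧ Up e m N' X := by
  rcases W.all e he N h m hm hm2 X hX with h1 | ⟨N', h1, h2, h3⟩
  · exact Or.inl h1
  · exact Or.inr ⟨N', h2, h1, hX, fam_comm h hm, fam_fix h h1 h2.symm hm, h3⟩

omit W in
theorem finite_U (s : G) : {N | Fam s N}.Finite := Set.toFinite _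

/-- **(FF)** -/
theorem ff {e m : G} (he : e ∈ D) (hm : m ∈ D) (hem : m * e = e * m) (hf : ∀ M, Fam e M → Fixes m M) :
    ∀ N, Fam m N → ∃ M, Up e m M N := by
  classical
  choose! f hf' using fun M (hM : Fam e M) => W.up he hM (W.inv m hm) hem (hf M hM)
  have hmaps : ∀ M ∈ {M | Fam e M}, f M ∈ {N | Fam m N} := fun M hM => (hf' M hM).ft
  have hinj : Set.InjOn f {M | Fam e M} := by
    intro M hM M' hM' h1
    have h2 := hf' M hM
    rw [h1] at h2
    exact h2.uniq (hf' M' hM')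
  intro N hN
  have h3 : f '' {M | Fam e M} = {N | Fam m N} := by
    refine Set.eq_of_subset_of_ncard_le ?_ ?_ (Set.toFinite _)
    · rintro _ ⟨M, hM, rfl⟩
      exact hmaps M hM
    · rw [Set.ncard_image_of_injOn hinj, W.card m hm e he]
  have h4 : N ∈ f '' {M | Fam e M} := by rw [h3]; exact hN
  obtain ⟨M, hM, rfl⟩ := h4
  exact ⟨M, hf' M hM⟩

/-- `m ∈ F(e)` implies `e ∈ F(m)` -/
theorem ff_symm {e m : G} (he : e ∈ D) (hm : m ∈ D) (hem : m * e = e * m) (hf : ∀ M, Fam e M → Fixes m M) :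
    ∀ N, Fam m N → Fixes e N := by
  intro N hN
  obtain ⟨M, hM⟩ := W.ff he hm hem hf N hN
  exact hM.up.fix

/-- two members -/
theorem exists_ne {a : G} {M : Subgroup G} (ha : a ∈ D) : ∃ M', Fam a M' ∧ M' ≠ M := by
  obtain ⟨N, N', h1, h2, h3⟩ := W.two a ha
  by_cases h4 : N = M
  · exact ⟨N', h2, fun h5 => h3 (h4.trans h5.symm)⟩
  · exact ⟨N, h1, h4⟩

end W3

/-! ### commuting dihedral groups -/

/-- elements of a 2-group lying in two different members commute -/
theorem comm_of_two {s : G} {K K' Y : Subgroup G} (h : Fam s K) (h' : Fam s K') (hne : K ≠ K') (hY : IsPGroup 2 ↥Y)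
    {x y : G} (hx : x ∈ K) (hy : y ∈ K') (hxY : x ∈ Y) (hyY : y ∈ Y) : x * y = y * x := by
  have h1 : ⁅x, y⁆ ∈ core K := (h.comp.comm_le_core h'.comp hne (commutator_mem_commutator hx hy)).1
  have h2 : ⁅x, y⁆ ∈ Y := Y.mul_mem (Y.mul_mem (Y.mul_mem hxY hyY) (Y.inv_mem hxY)) (Y.inv_mem hyY)
  have h3 : ⁅x, y⁆ = 1 := eq_one_of_core hY h2 h1
  rwa [commutatorElement_eq_one_iff_mul_comm] at h3

/-- commuting dihedral subgroups of two members, commuting with `e` -/
theorem exists_pair {s e : G} {K K' : Subgroup G} (h : Fam s K) (h' : Fam s K') (hne : K ≠ K') (hes : e * s = s * e)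
    (hee : e * e = 1) (hK : cj e K = K) (hK' : cj e K' = K') :
    ∃ (X X' : Subgroup G) (z z' : G), Dih X z ∧ Dih X' z' ∧ X ≤ K ∧ X' ≤ K' ∧
      (∀ x ∈ X, x * e = e * x) ∧ (∀ x ∈ X', x * e = e * x) ∧ ∀ x ∈ X, ∀ y ∈ X', x * y = y * x := by
  set H : Subgroup G := centralizer ({s} : Set G) ⊓ centralizer ({e} : Set G) ⊓ normalizer (K : Set G) ⊓
    normalizer (K' : Set G) with hH
  obtain ⟨Y, hY, -⟩ := exists_isSyl (E := H) (R₀ := ⊥) (IsPGroup.of_card (n := 0) (by simp)) bot_le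
  have key : ∀ {L : Subgroup G}, Fam s L → cj e L = L → H ≤ normalizer (L : Set G) →
      L ≤ normalizer (K : Set G) → L ≤ normalizer (K' : Set G) → ∃ (X : Subgroup G) (z : G), Dih X z ∧ X ≤ L ∧
        X ≤ Y ∧ ∀ x ∈ X, x * e = e * x := by
    intro L hL heL hHL h1 h2
    have h3 : L ⊓ centralizer ({e} : Set G) ≤ H := by
      intro x hx
      exact ⟨⟨⟨hL.comp.le hx.1, hx.2⟩, h1 hx.1⟩, h2 hx.1⟩
    have h4 : H ≤ normalizer ((L ⊓ centralizer ({e} : Set G) : Subgroup G) : Set G) := by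
      intro x hx
      rw [mem_normalizer_iff_cj, cj_inf, mem_normalizer_iff_cj.1 (hHL hx), cj_centralizer,
        conj_self (comm_c hx.1.1.2)]
    have h5 := hY.inf h3 h4
    obtain ⟨M⟩ := hL.a7
    have h6 := card_syl_cent' M hL.comp (mem_c hes) (mem_normalizer_iff_cj.2 heL) hee h5
    obtain ⟨z, hz⟩ := dih_of_card M h5.two (h5.le.trans inf_le_left) h6
    exact ⟨_, z, hz, h5.le.trans inf_le_left, inf_le_left, fun x hx => comm_c (h5.le hx).2⟩
  have hn : ∀ {L L' : Subgroup G}, Fam s L → Fam s L' → L ≤ normalizer (L' : Set G) := by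
    intro L L' hL hL' x hx
    by_cases h1 : L = L'
    · rw [← h1]; exact le_normalizer hx
    · exact (fam_fix hL hL' h1 hx).1
  obtain ⟨X, z, h1, h2, h3, h4⟩ := key h hK (fun x hx => hx.1.2) (hn h h) (hn h h')
  obtain ⟨X', z', h1', h2', h3', h4'⟩ := key h' hK' (fun x hx => hx.2) (hn h' h) (hn h' h')
  exact ⟨X, X', z, z', h1, h1', h2, h2', h4, h4', fun x hx y hy =>
    comm_of_two h h' hne hY.two (h2 hx) (h2' hy) (h3 hx) (h3' hy)⟩

/-- an involution of `K'` commuting with the 2-subgroup `E` of `K` -/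
theorem exists_inv_comm {s : G} {K K' E : Subgroup G} (h : Fam s K) (h' : Fam s K') (hne : K ≠ K')
    (hE : IsPGroup 2 ↥E) (hEK : E ≤ K) : ∃ w ∈ K', orderOf w = 2 ∧ ∀ e ∈ E, w * e = e * w := by
  obtain ⟨Y, hY, hEY⟩ := exists_isSyl (E := centralizer ({s} : Set G) ⊓ normalizer (K' : Set G)) hE (by
    intro x hx
    exact ⟨h.comp.le (hEK hx), (fam_fix h h' hne (hEK hx)).1⟩)
  have h1 := hY.inf (L := K') (fun x hx => ⟨h'.comp.le hx, le_normalizer hx⟩) inf_le_right
  obtain ⟨M⟩ := h'.a7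
  have h2 := card_syl M h1
  obtain ⟨z, hz⟩ := dih_of_card M h1.two h1.le h2
  refine ⟨z, h1.le hz.mem, ord2 hz.sq hz.ne, fun e he => ?_⟩
  exact (comm_of_two h h' hne hY.two (hEK he) (h1.le hz.mem) (hEY he) (hz.mem).1).symm

end Cfsg.Agent.UGT.A7.BThree
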