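import Cfsg.Agent.UGT.A7.BThree.Norm

/-!
# World 3 of the β-branch of [A7]: the union of the parts is strongly closed (5); LEMMA W, FIX (6)
-/

set_option autoImplicit false
set_option linter.unusedSectionVars false

open Cfsg Subgroup Equiv Equiv.Perm
open Cfsg.Agent.UAlt
open Cfsg.Agent.SignalizersComponents Cfsg.Agent.Lib
open Cfsg.Agent.SignalizersComponents.IntrinsicBasic
open Cfsg.Agent.Intrinsic.Basic Cfsg.Agent.Intrinsic.Cen Cfsg.Agent.Intrinsic.Diag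
open Cfsg.Agent.UGT.Triple Cfsg.Agent.UGT.TriBase
open Cfsg.Agent.UGT.A7.B.One
open Cfsg.Agent.UGT.A7.B (Fam TrivUp DiagUp F1 WW DP A1 AA FS)
open scoped commutatorElement

namespace Cfsg.Agent.UGT.A7.BThree

variable {G : Type*} [Group G] [Finite G]

theorem comm_of_fix {K S : Subgroup G} (hS : IsPGroup 2 ↥S) {w m : G} (hw : w ∈ S) (hf : Fixes w K)
    (hm : m ∈ K) (hmS : m ∈ S) : w * m = m * w := by
  have h1 : ⁅w, m⁆ ∈ core K := hf.2 m hm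
  have h2 : ⁅w, m⁆ ∈ S := S.mul_mem (S.mul_mem (S.mul_mem hw hmS) (S.inv_mem hw)) (S.inv_mem hmS)
  have h3 : ⁅w, m⁆ = 1 := eq_one_of_core hS h2 h1
  rwa [commutatorElement_eq_one_iff_mul_comm] at h3

theorem conj_comm {x y : G} (g : G) (h : x * y = y * x) :
    g * x * g⁻¹ * (g * y * g⁻¹) = g * y * g⁻¹ * (g * x * g⁻¹) := by
  calc g * x * g⁻¹ * (g * y * g⁻¹) = g * (x * y) * g⁻¹ := by group
    _ = g * (y * x) * g⁻¹ := by rw [h]
    _ = _ := by group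

theorem conj_order (g x : G) : orderOf (g * x * g⁻¹) = orderOf x := (MulAut.conj g).orderOf_eq x

theorem pw_of {S : Subgroup G} (hS : IsPGroup 2 ↥S) {t : G} (ht : t ∈ S) : ∃ n : ℕ, t ^ 2 ^ n = 1 := by
  obtain ⟨n, hn⟩ := hS ⟨t, ht⟩
  exact ⟨n, congrArg Subtype.val hn⟩

/-! ### property (π) -/

/-- property (π) of an element `x` -/
def PiP (x : G) : Prop := ∀ M, Fam (x * x) M → Fixes x M ∧ ∀ m ∈ M, orderOf m = 2 → m * x = x * m →
  ∀ Y, Fam m Y → x * x ∈ Y → x ∈ Y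

theorem PiP.conj {x : G} (h : PiP x) (g : G) : PiP (g * x * g⁻¹) := by
  intro M hM
  have e1 : g⁻¹ * (g * x * g⁻¹ * (g * x * g⁻¹)) * g⁻¹⁻¹ = x * x := by group
  have h1 := fam_cj hM g⁻¹
  rw [e1] at h1
  obtain ⟨h2, h3⟩ := h _ h1
  refine ⟨?_, fun m hm hm2 hmx Y hY hxY => ?_⟩
  · have h4 := h2.cj g
    rwa [cj_cj_inv] at h4
  · have h4 := h3 (g⁻¹ * m * g⁻¹⁻¹) (conj_mem_cj hm) (by rw [conj_order]; exact hm2) (by
      have := conj_comm g⁻¹ hmx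
      have e2 : g⁻¹ * (g * x * g⁻¹) * g⁻¹⁻¹ = x := by group
      rwa [e2] at this) (cj g⁻¹ Y) (fam_cj hY g⁻¹) (by
      rw [← e1]
      exact conj_mem_cj hxY)
    rw [mem_cj] at h4
    rwa [inv_inv] at h4

namespace PS

variable {D : Set G} {S : Subgroup G} {𝔓 : Set (Subgroup G)}

theorem piP (W : W3 D) (H : PS D S 𝔓) {P : Subgroup G} (hP : P ∈ 𝔓) {x : G} (hx : x ∈ P) (hxx : x * x ≠ 1) :
    PiP x := by
  obtain ⟨z, hz⟩ := H.dih P hP
  have hxz : x * x = z := (hz.pow_or x hx).resolve_left hxx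
  have hzD : z ∈ D := H.inD P hP z hz.mem hz.sq hz.ne
  intro M hM
  rw [hxz] at hM
  refine ⟨H.fix W hP hz.mem hzD hx (hz.cen x hx).symm hM, fun m hm hm2 hmx Y hY hxY => ?_⟩
  rw [hxz] at hxY
  obtain ⟨Q, hQ, hQP, hQM⟩ := H.all P hP z hz.mem hzD M hM
  obtain ⟨zQ, hzQ⟩ := H.dih Q hQ
  have hsyl := fam_syl hM hzQ hQM
  have hC : IsSyl (M ⊓ centralizer ({x} : Set G)) Q :=
    ⟨hsyl.two, fun q hq => ⟨hQM hq, mem_c (H.comm hQ hP hQP hq hx)⟩, fun R hR hRM hle =>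
      hsyl.max R hR (hRM.trans inf_le_left) hle⟩
  obtain ⟨c, hc, hle⟩ := hC.conj (R' := zpowers m) (BalanceAux.isPGroup_zpowers_of_orderOf (by rw [hm2]))
    (by rw [zpowers_le]; exact ⟨hm, mem_c hmx⟩)
  have hmQ : c⁻¹ * m * c ∈ Q := mem_cj.1 (hle (mem_zpowers m))
  have hmQ2 : orderOf (c⁻¹ * m * c) = 2 := by
    have := conj_order c⁻¹ m
    rw [inv_inv] at this
    rw [this, hm2]
  obtain ⟨Y', hY', hPY⟩ := H.memb Q hQ P hP hQP _ hmQ
    (H.inD Q hQ _ hmQ (sq_of_order hmQ2) (ne_one_of_order hmQ2))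
  have h1 := fam_cj hY' c
  have e1 : c * (c⁻¹ * m * c) * c⁻¹ = m := by group
  rw [e1] at h1
  have hcx : c * x = x * c := comm_c hc.2
  have h2 : x ∈ IntrinsicBasic.cj c Y' := by
    have := conj_mem_cj (g := c) (hPY hx)
    rwa [conj_self hcx] at this
  have h3 : z ∈ IntrinsicBasic.cj c Y' := by rw [← hxz]; exact mul_mem h2 h2
  rwa [fam_uniq hY h1 hxY h3 (sq_pow hz.sq) hz.ne]

theorem of_piP (W : W3 D) (H : PS D S 𝔓) {w : G} (hw : w ∈ S) (hwD : w * w ∈ D) (hpi : PiP w) :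
    ∃ Q ∈ 𝔓, w ∈ Q := by
  obtain ⟨P, hP, hwP⟩ := H.cov _ hwD (S.mul_mem hw hw)
  obtain ⟨z, hz⟩ := H.dih P hP
  have h1 : IntrinsicBasic.cj w P = P :=
    H.fix_part W (cj_eq_self_of_mem hw) hP hwP (W.ne1 hwD) (by group)
  have hwn : ∀ p ∈ P, w * p * w⁻¹ ∈ P := fun p hp => by
    have := conj_mem_cj (g := w) hp
    rwa [h1] at this
  have hwz : w * w = z := hz.sq_eq hwn hwP (W.sq hwD) (W.ne1 hwD)
  have hzD : z ∈ D := H.inD P hP z hz.mem hz.sq hz.ne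
  obtain ⟨R, hR, hRP, -⟩ := H.three P P
  obtain ⟨m, hm⟩ := H.dih R hR
  obtain ⟨M, hM, hRM⟩ := H.memb P hP R hR (Ne.symm hRP) z hz.mem hzD
  have hpi' := hpi M (by rw [hwz]; exact hM)
  have hwm := comm_of_fix H.two hw hpi'.1 (hRM hm.mem) (H.le R hR hm.mem)
  obtain ⟨Y, hY, hPY⟩ := H.memb R hR P hP hRP m hm.mem (H.inD R hR m hm.mem hm.sq hm.ne)
  have hwY : w ∈ Y := hpi'.2 m (hRM hm.mem) (ord2 hm.sq hm.ne) hwm.symm Y hY (by rw [hwz]; exact hPY hz.mem)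
  obtain ⟨n, hn⟩ := pw_of H.two hw
  exact ⟨P, hP, mem_of_norm (fam_syl hY hz hPY) hwY hwn hn⟩

/-- **(5)** the union of the parts is strongly closed -/
theorem closed (W : W3 D) (H : PS D S 𝔓) {P : Subgroup G} (hP : P ∈ 𝔓) {x g : G} (hx : x ∈ P)
    (hgx : g * x * g⁻¹ ∈ S) : ∃ Q ∈ 𝔓, g * x * g⁻¹ ∈ Q := by
  by_cases hx1 : x = 1
  · refine ⟨P, hP, ?_⟩
    rw [hx1, mul_one, mul_inv_cancel]
    exact P.one_mem
  by_cases hxx : x * x = 1
  · exact H.cov _ (W.conj x (H.inD P hP x hx hxx hx1) g) hgx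
  · refine H.of_piP W hgx ?_ ((H.piP W hP hx hxx).conj g)
    obtain ⟨z, hz⟩ := H.dih P hP
    have hxz : x * x = z := (hz.pow_or x hx).resolve_left hxx
    have h1 := W.conj z (H.inD P hP z hz.mem hz.sq hz.ne) g
    have e1 : g * x * g⁻¹ * (g * x * g⁻¹) = g * z * g⁻¹ := by rw [← hxz]; group
    rwa [e1]

end PS

/-! ### LEMMA W and FIX -/

namespace W3

variable {D : Set G} (W : W3 D)

include W

/-- **LEMMA W** -/
theorem lemW {x z d : G} {n : ℕ} (hn : x ^ 2 ^ n = 1) (hz : z ∈ D) (hd : d ∈ D) (hxz : x * z = z * x)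
    (hxd : x * d = d * x) (h : ∀ M, Fam z M → cj x M = M) : ∀ M, Fam d M → cj x M = M := by
  obtain ⟨Q, hQ, hzQ⟩ := exists_isSyl (E := centralizer ({x} : Set G)) (R₀ := zpowers z)
    (BalanceAux.isPGroup_zpowers_of_orderOf (by rw [W.inv z hz])) (by rw [zpowers_le]; exact mem_c hxz.symm)
  have hxQ : x ∈ Q := by
    refine mem_of_norm hQ (mem_c rfl) (fun t ht => ?_) hn
    have h1 : t * x = x * t := comm_c (hQ.le ht)
    rw [← h1, mul_inv_cancel_right]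
    exact ht
  obtain ⟨c, hc, hle⟩ := hQ.conj (R' := zpowers d) (BalanceAux.isPGroup_zpowers_of_orderOf (by rw [W.inv d hd]))
    (by rw [zpowers_le]; exact mem_c hxd.symm)
  have hdQ : c⁻¹ * d * c ∈ Q := mem_cj.1 (hle (mem_zpowers d))
  have hcx : c * x = x * c := comm_c hc
  have hcx' : c⁻¹ * x = x * c⁻¹ := by
    calc c⁻¹ * x = c⁻¹ * (x * c) * c⁻¹ := by group
      _ = c⁻¹ * (c * x) * c⁻¹ := by rw [hcx]
      _ = x * c⁻¹ := by group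
  obtain ⟨S, 𝔓, hQS, H⟩ := W.ps_ge hQ.two
  have hxS : cj x (S : Subgroup G) = S := cj_eq_self_of_mem (hQS hxQ)
  have hdD : c⁻¹ * d * c ∈ D := by
    have := W.conj d hd c⁻¹
    rwa [inv_inv] at this
  have hxd' : x * (c⁻¹ * d * c) = c⁻¹ * d * c * x := by
    have := comm_c (hQ.le hdQ)
    exact this.symm
  have h1 := (H.fixall_iff W hxS hz (hQS (hzQ (mem_zpowers z))) hxz).1 h
  have h2 := (H.fixall_iff W hxS hdD (hQS hdQ) hxd').2 h1
  intro M hM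
  have h3 := fam_cj hM c⁻¹
  rw [inv_inv] at h3
  have h4 := h2 _ h3
  rw [← cj_mul, ← hcx', cj_mul] at h4
  exact cj_injective c⁻¹ h4

/-- **FIX** -/
theorem fixx {S : Subgroup G} {𝔓 : Set (Subgroup G)} (H : PS D S 𝔓) {x g : G} (hx : x ∈ S)
    (hfix : ∀ P ∈ 𝔓, cj x P = P) (hgx : g * x * g⁻¹ ∈ S) {P : Subgroup G} (hP : P ∈ 𝔓)
    (hgP : cj (g * x * g⁻¹) P = P) : ∀ Q ∈ 𝔓, cj (g * x * g⁻¹) Q = Q := by
  obtain ⟨z, hz⟩ := H.dih P hP
  have hzD : z ∈ D := H.inD P hP z hz.mem hz.sq hz.ne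
  have hxz := dih_fix hz (hfix P hP)
  have h1 := (H.fixall_iff W (cj_eq_self_of_mem hx) hzD (H.le P hP hz.mem) hxz).2 hfix
  have hgz := dih_fix hz hgP
  obtain ⟨n, hn⟩ := pw_of H.two hgx
  refine (H.fixall_iff W (cj_eq_self_of_mem hgx) hzD (H.le P hP hz.mem) hgz).1 ?_
  refine W.lemW hn (W.conj z hzD g) hzD (conj_comm g hxz) hgz fun M hM => ?_
  have h2 := fam_cj hM g⁻¹
  have e1 : g⁻¹ * (g * z * g⁻¹) * g⁻¹⁻¹ = z := by group
  rw [e1] at h2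
  have h3 := h1 _ h2
  have h4 := congrArg (cj g) h3
  rw [cj_cj_inv, ← cj_mul, ← cj_mul] at h4
  exact h4

end W3

end Cfsg.Agent.UGT.A7.BThree
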