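import Cfsg.Agent.UGT.A7.BThree.Base

/-!
# World 3 of the β-branch of [A7]: commuting elements of `D`

* `W3.c1` (C1): for commuting `a ≠ e` in `D` either `e ∈ F(a)` or `e` lies in a member of `U(a)`, and then `a` lies in a
  member of `U(e)`.
* `W3.ff'` (FF'): commuting involutions `e`, `e'` of a member of `U(a)`, `a ∈ D`: `e ∈ F(e')`.
-/

set_option autoImplicit false
set_option linter.unusedSectionVars false

open Cfsg Subgroup Equiv Equiv.Perm
open Cfsg.Agent.UAlt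
open Cfsg.Agent.SignalizersComponents Cfsg.Agent.Lib
open Cfsg.Agent.SignalizersComponents.IntrinsicBasic
open Cfsg.Agent.Intrinsic.Basic Cfsg.Agent.Intrinsic.Cen Cfsg.Agent.Intrinsic.Diag
open Cfsg.Agent.UGT.Triple Cfsg.Agent.UGT.TriBase
open Cfsg.Agent.UGT.A7.B.One
open Cfsg.Agent.UGT.A7.B (Fam TrivUp DiagUp F1 WW DP A1 AA FS)
open scoped commutatorElement

namespace Cfsg.Agent.UGT.A7.BThree

variable {G : Type*} [Group G] [Finite G]

namespace W3

variable {D : Set G} (W : W3 D)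

include W

theorem sq {e : G} (he : e ∈ D) : e * e = 1 := sq_of_order (W.inv e he)

theorem ne1 {e : G} (he : e ∈ D) : e ≠ 1 := ne_one_of_order (W.inv e he)

theorem pw {e : G} (he : e ∈ D) : e ^ 2 ^ 1 = 1 := sq_pow (W.sq he)

/-- the elements of `D` commuting with a dihedral subgroup `X` of a member of `U(a)`, `a ∈ D`: `X` normalizes their members -/
theorem dih_norm {a e z : G} {M X N : Subgroup G} (ha : a ∈ D) (hM : Fam a M) (hX : Dih X z) (hXM : X ≤ M)
    (hXe : ∀ x ∈ X, x * e = e * x) (hN : Fam e N) : X ≤ normalizer (N : Set G) := by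
  refine hX.le_of_inv fun u hu huu hu1 => ?_
  rw [mem_normalizer_iff_cj]
  exact W.c2 e u N hN (W.mem a ha M hM u (hXM hu) (ord2 huu hu1)) (hXe u hu)

/-- **(C1)** -/
theorem c1 {a e : G} (ha : a ∈ D) (he : e ∈ D) (hea : e * a = a * e) :
    (∀ M, Fam a M → Fixes e M) ∨ ((∃ M, Fam a M ∧ e ∈ M) ∧ ∃ M, Fam e M ∧ a ∈ M) := by
  by_cases hF : ∀ M, Fam a M → Fixes e M
  · exact Or.inl hF
  right
  push Not at hF
  obtain ⟨M, hM, heM⟩ := hF
  obtain ⟨M', hM', hne⟩ := W.exists_ne (M := M) ha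
  obtain ⟨X, X', z, z', hX, hX', hXM, hXM', hXe, hXe', hXX⟩ := exists_pair hM hM' hne.symm hea (W.sq he)
    (W.c2 a e M hM he hea) (W.c2 a e M' hM' he hea)
  have hzM := hXM hX.mem
  have hzM' := hXM' hX'.mem
  have hz2 : orderOf z = 2 := ord2 hX.sq hX.ne
  have hz2' : orderOf z' = 2 := ord2 hX'.sq hX'.ne
  have hzD : z ∈ D := W.mem a ha M hM z hzM hz2
  have hzD' : z' ∈ D := W.mem a ha M' hM' z' hzM' hz2'
  have hze : z * e = e * z := hXe z hX.mem
  have hze' : z' * e = e * z' := hXe' z' hX'.mem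
  have hzz : z * z' = z' * z := hXX z hX.mem z' hX'.mem
  -- `z` fixes the members of `U(e)`
  have hzF : ∀ N, Fam e N → Fixes z N := by
    intro N hN
    by_contra hn
    obtain ⟨L⟩ := hN.a7
    have h1 : Fixes z' N := fixes_of_two L hX hX' (W.dih_norm ha hM hX hXM hXe hN)
      (W.dih_norm ha hM' hX' hXM' hXe' hN) hXX hn
    obtain ⟨N₁, hN₁⟩ := W.up he hN hz2' hze' h1
    have h2 : ¬ Fixes z N₁ := fun h => hn ((hN₁.fix_iff hze hzz).2 h)
    obtain ⟨X₁, hX₁⟩ := W.a1 ha hM' hM hne.symm hzM' hz2'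
    have h3 : z ∈ X₁ := hX₁.mem hzM hzz (W.pw hzD)
    have h4 : N₁ = X₁ := by
      by_contra h5
      exact h2 (fam_fix hX₁.ft hN₁.ft (Ne.symm h5) h3)
    apply heM
    rw [hX₁.fix_iff hea hze'.symm, ← h4]
    exact hN₁.up.fix
  have heF : ∀ N, Fam z N → Fixes e N := W.ff_symm he hzD hze hzF
  obtain ⟨A, hA, haA⟩ := W.star a ha M hM z hzM hz2
  obtain ⟨N, hN⟩ := W.up hzD hA (W.inv e he) hze.symm (heF A hA)
  have h1 : a ∈ N := hN.mem haA hea.symm (W.pw ha)
  obtain ⟨X₂, hX₂, he2⟩ := W.star e he N hN.ft a h1 (W.inv a ha)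
  exact ⟨⟨X₂, hX₂, he2⟩, N, hN.ft, h1⟩

/-- if `e` is non-trivial on `M ∈ U(a)` then `e ∈ M` -/
theorem c1_mem {a e : G} {M : Subgroup G} (ha : a ∈ D) (he : e ∈ D) (hea : e * a = a * e) (hM : Fam a M)
    (hn : ¬ Fixes e M) : e ∈ M ∧ ∃ M, Fam e M ∧ a ∈ M := by
  rcases W.c1 ha he hea with h1 | ⟨⟨M', h1, h2⟩, h3⟩
  · exact (hn (h1 M hM)).elim
  · by_cases h4 : M' = M
    · exact ⟨h4 ▸ h2, h3⟩
    · exact (hn (fam_fix h1 hM h4 h2)).elim

/-- **(FF')** -/
theorem ff' {a e e' : G} {M : Subgroup G} (ha : a ∈ D) (hM : Fam a M) (he : e ∈ M) (he' : e' ∈ M)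
    (he2 : orderOf e = 2) (he2' : orderOf e' = 2) (hee : e * e' = e' * e) : ∀ N, Fam e' N → Fixes e N := by
  have heD : e ∈ D := W.mem a ha M hM e he he2
  have heD' : e' ∈ D := W.mem a ha M hM e' he' he2'
  have hea : e * a = a * e := fam_comm hM he
  have hea' : e' * a = a * e' := fam_comm hM he'
  intro N hN
  by_contra hn
  obtain ⟨heN, -⟩ := W.c1_mem heD' heD hee hN hn
  rcases W.alls ha hM he' he2' hN with haN | ⟨M₁, h1, h2⟩
  · -- `N = K*_{e'}(a)`
    obtain ⟨M', hM', hne⟩ := W.exists_ne (M := M) ha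
    obtain ⟨E, hE, hEM, h3, h4⟩ : ∃ E : Subgroup G, IsPGroup 2 ↥E ∧ E ≤ M ∧ e ∈ E ∧ e' ∈ E := by
      refine ⟨zpowers e ⊔ zpowers e', ?_, ?_, mem_sup_left (mem_zpowers e), mem_sup_right (mem_zpowers e')⟩
      · refine IsPGroup.to_sup_of_normal_right' (BalanceAux.isPGroup_zpowers_of_orderOf (by rw [he2]))
          (BalanceAux.isPGroup_zpowers_of_orderOf (by rw [he2'])) ?_
        rw [zpowers_le, mem_normalizer_iff_cj, cj_def]
        have : (zpowers e').map (MulAut.conj e).toMonoidHom = zpowers (e * e' * e⁻¹) :=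
          MonoidHom.map_zpowers _ _
        rw [this, conj_self hee]
      · exact sup_le (by rwa [zpowers_le]) (by rwa [zpowers_le])
    obtain ⟨w, hw, hw2, hwE⟩ := exists_inv_comm hM hM' hne.symm hE hEM
    have hwe := hwE e h3
    have hwe' := hwE e' h4
    have hwa : w * a = a * w := fam_comm hM' hw
    -- `w ∈ M'_{e'}`
    obtain ⟨X, hX⟩ := W.a1 ha hM hM' hne he' he2'
    have hwX : w ∈ X := hX.mem hw hwe' (sq_pow (sq_of_order hw2))
    have hXN : N ≠ X := by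
      rintro rfl
      exact fam_not_fix hX.ft haN (W.pw ha) (W.ne1 ha) hX.up.fix
    obtain ⟨A, hA⟩ := W.a1 heD' hX.ft hN hXN hwX hw2
    have haA : a ∈ A := hA.mem haN hwa.symm (W.pw ha)
    have heA : e ∈ A := hA.mem heN hwe.symm (W.pw heD)
    obtain ⟨B, hB⟩ := W.a1 ha hM' hM hne.symm hw hw2
    have heB : e ∈ B := hB.mem he hwe.symm (W.pw heD)
    have hAB : A = B := fam_uniq hA.ft hB.ft heA heB (W.pw heD) (W.ne1 heD)
    rw [hAB] at haA
    exact fam_not_fix hB.ft haA (W.pw ha) (W.ne1 ha) hB.up.fix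
  · exact hn ((h2.fix_iff hea hee).1 (fam_fix hM h2.fs h1.symm he))

end W3

end Cfsg.Agent.UGT.A7.BThree
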