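import Cfsg.Agent.UGT.A7.B.OneSyl
import Cfsg.Agent.UGT.A7.B.Defs

/-!
# Dihedral groups of order 8 acting on groups of type `A₇`

* `Dih P z`: `P` is dihedral of order 8 with centre `⟨z⟩`.
* `dih_of_card`: subgroups of order 8 of `K` (type `A₇`) are dihedral.
* `exists_dih`: an element `e`, `e² = 1`, normalizing `K` (type `A₇`) centralizes a dihedral subgroup of order 8 of `K`.
* `fixes_of_two`: if the dihedral groups `X`, `X'` with centres `z`, `z'` commute and normalize `K`, then `z` or `z'`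
  fixes `K`.
-/

set_option autoImplicit false
set_option linter.unusedSectionVars false

open Cfsg Subgroup Equiv Equiv.Perm
open Cfsg.Agent.UAlt
open Cfsg.Agent.SignalizersComponents Cfsg.Agent.Lib
open Cfsg.Agent.SignalizersComponents.IntrinsicBasic
open Cfsg.Agent.Intrinsic.Basic Cfsg.Agent.Intrinsic.Cen Cfsg.Agent.Intrinsic.Diag
open Cfsg.Agent.UGT.Triple Cfsg.Agent.UGT.TriBase
open Cfsg.Agent.UGT.A7.B.One

namespace Cfsg.Agent.UGT.A7.BThree

universe u

/-! ### dihedral groups -/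

/-- `P` is dihedral of order 8 with centre `⟨z⟩` -/
def Dih {G : Type*} [Group G] (P : Subgroup G) (z : G) : Prop := ∃ e : DihedralGroup 4 ≃* ↥P, (e (.r 2) : G) = z

theorem dih_of_equiv {G : Type*} [Group G] {P : Subgroup G} (e : DihedralGroup 4 ≃* ↥P) :
    Dih P (e (.r 2) : G) := ⟨e, rfl⟩

namespace Dih

variable {G : Type*} [Group G] {P : Subgroup G} {z : G}

theorem eights (h : Dih P z) : EightS P z := by
  obtain ⟨e, rfl⟩ := h
  have hc : Nat.card P = 8 := by
    rw [← Nat.card_congr e.toEquiv, Nat.card_eq_fintype_card, DihedralGroup.card]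
  obtain ⟨z, hz⟩ : ∃ z, EightS P z := ⟨_, eightS_of_eight hc (eight_dihedral.of_equiv e)⟩
  have key0 : ∀ b : DihedralGroup 4, (.r 2 : DihedralGroup 4) * b = b * .r 2 := by decide
  have hz' : z = (e (.r 2) : G) := by
    rcases hz.cen' (e (.r 2) : G) (e (.r 2)).2 (by
      intro q hq
      obtain ⟨b, hb⟩ := e.surjective ⟨q, hq⟩
      have h2 := congrArg (fun t => ((e t : ↥P) : G)) (key0 b)
      simp only [map_mul, Subgroup.coe_mul, hb] at h2
      exact h2) with h1 | h1
    · exfalso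
      have h2 : e (.r 2) = 1 := Subtype.ext h1
      rw [map_eq_one_iff _ e.injective] at h2
      exact absurd h2 (by decide)
    · exact h1.symm
  rwa [← hz']

theorem card (h : Dih P z) : Nat.card P = 8 := h.eights.card
theorem mem (h : Dih P z) : z ∈ P := h.eights.mem
theorem ne (h : Dih P z) : z ≠ 1 := h.eights.ne
theorem sq (h : Dih P z) : z * z = 1 := h.eights.sq
theorem cen (h : Dih P z) : ∀ p ∈ P, z * p = p * z := h.eights.cen
theorem com (h : Dih P z) : ∀ p ∈ P, ∀ q ∈ P, p * q * p⁻¹ * q⁻¹ = 1 ∨ p * q * p⁻¹ * q⁻¹ = z := h.eights.com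
theorem cen' (h : Dih P z) : ∀ p ∈ P, (∀ q ∈ P, p * q = q * p) → p = 1 ∨ p = z := h.eights.cen'
theorem pow_or (h : Dih P z) : ∀ p ∈ P, p * p = 1 ∨ p * p = z := h.eights.pow

theorem prod (h : Dih P z) : ∀ p ∈ P, ∃ u ∈ P, ∃ v ∈ P, u * u = 1 ∧ v * v = 1 ∧ p = u * v := by
  obtain ⟨e, rfl⟩ := h
  intro p hp
  obtain ⟨b, hb⟩ := e.surjective ⟨p, hp⟩
  have key : ∀ b : DihedralGroup 4, ∃ u v : DihedralGroup 4, u * u = 1 ∧ v * v = 1 ∧ b = u * v := by decide
  obtain ⟨u, v, h1, h2, h3⟩ := key b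
  refine ⟨e u, (e u).2, e v, (e v).2, ?_, ?_, ?_⟩
  · have := congrArg (fun t => ((e t : ↥P) : G)) h1
    simp only [map_mul, Subgroup.coe_mul, map_one, Subgroup.coe_one] at this
    exact this
  · have := congrArg (fun t => ((e t : ↥P) : G)) h2
    simp only [map_mul, Subgroup.coe_mul, map_one, Subgroup.coe_one] at this
    exact this
  · have := congrArg (fun t => ((e t : ↥P) : G)) h3
    simp only [map_mul, Subgroup.coe_mul, hb] at this
    exact this

theorem four (h : Dih P z) : ∀ u ∈ P, u * u = 1 → u ≠ 1 → u ≠ z → ∀ p ∈ P, p * u = u * p →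
    p = 1 ∨ p = z ∨ p = u ∨ p = u * z := by
  obtain ⟨e, rfl⟩ := h
  intro u hu huu hu1 huz p hp hpu
  obtain ⟨b, hb⟩ := e.surjective ⟨u, hu⟩
  obtain ⟨c, hc'⟩ := e.surjective ⟨p, hp⟩
  have eu : u = (e b : G) := by rw [hb]
  have ep : p = (e c : G) := by rw [hc']
  subst eu ep
  have h1 : b * b = 1 := by
    apply e.injective; apply Subtype.ext
    rw [map_mul, map_one]; exact huu
  have h2 : b ≠ 1 := by rintro rfl; rw [map_one] at hu1; exact hu1 rfl
  have h3 : b ≠ .r 2 := by rintro rfl; exact huz rfl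
  have h4 : c * b = b * c := by
    apply e.injective; apply Subtype.ext
    rw [map_mul, map_mul]; exact hpu
  have key : ∀ b c : DihedralGroup 4, b * b = 1 → b ≠ 1 → b ≠ .r 2 → c * b = b * c →
      c = 1 ∨ c = .r 2 ∨ c = b ∨ c = b * .r 2 := by decide
  rcases key b c h1 h2 h3 h4 with rfl | rfl | rfl | rfl
  · left; rw [map_one]; rfl
  · right; left; rfl
  · right; right; left; rfl
  · right; right; right; rw [map_mul]; rfl

theorem ex (h : Dih P z) : ∃ u ∈ P, u * u = 1 ∧ u ≠ 1 ∧ u ≠ z := by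
  obtain ⟨e, rfl⟩ := h
  refine ⟨e (.sr 0), (e (.sr 0)).2, ?_, ?_, ?_⟩
  · have h1 : (.sr 0 : DihedralGroup 4) * .sr 0 = 1 := by decide
    have := congrArg (fun t => ((e t : ↥P) : G)) h1
    simp only [map_mul, Subgroup.coe_mul, map_one, Subgroup.coe_one] at this
    exact this
  · intro h
    have h2 : e (.sr 0) = 1 := Subtype.ext h
    rw [map_eq_one_iff _ e.injective] at h2
    exact absurd h2 (by decide)
  · intro h
    have h2 := e.injective (Subtype.ext h)
    exact absurd h2 (by decide)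

theorem eq_z (h : Dih P z) {z' : G} (hz' : z' ∈ P) (h1 : z' ≠ 1) (hc : ∀ p ∈ P, z' * p = p * z') : z' = z :=
  (h.cen' z' hz' hc).resolve_left h1

/-- `P` is generated by its involutions -/
theorem le_of_inv (h : Dih P z) {Q : Subgroup G} (hQ : ∀ u ∈ P, u * u = 1 → u ≠ 1 → u ∈ Q) : P ≤ Q := by
  have h1 : ∀ u ∈ P, u * u = 1 → u ∈ Q := by
    intro u hu huu
    by_cases h1 : u = 1
    · rw [h1]; exact Q.one_mem
    · exact hQ u hu huu h1
  intro p hp
  obtain ⟨u, hu, v, hv, huu, hvv, rfl⟩ := h.prod p hp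
  exact Q.mul_mem (h1 u hu huu) (h1 v hv hvv)

theorem isPGroup (h : Dih P z) : IsPGroup 2 ↥P := IsPGroup.of_card (n := 3) (by rw [h.card]; norm_num)

theorem ne_bot (h : Dih P z) : P ≠ ⊥ := by
  intro h1
  have h2 := h.card
  rw [h1, Subgroup.card_bot] at h2
  omega

theorem pow_eq (h : Dih P z) {p : G} (hp : p ∈ P) : p ^ 2 ^ 2 = 1 := by
  have h4 : p ^ 2 ^ 2 = (p * p) * (p * p) := by
    rw [show (2 : ℕ) ^ 2 = 2 + 2 by norm_num, pow_add, pow_two]
  rw [h4]
  rcases h.pow_or p hp with h1 | h1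
  · rw [h1, mul_one]
  · rw [h1, h.sq]

theorem cj (h : Dih P z) (g : G) : Dih (IntrinsicBasic.cj g P) (g * z * g⁻¹) := by
  obtain ⟨e, rfl⟩ := h
  exact ⟨e.trans (P.equivMapOfInjective (MulAut.conj g).toMonoidHom (MulAut.conj g).injective), rfl⟩

/-- an element `w` normalizing `P` with `w² = u ∈ P`, `u` an involution: `u = z` -/
theorem sq_eq (h : Dih P z) {w : G} (hw : ∀ p ∈ P, w * p * w⁻¹ ∈ P) (hu : w * w ∈ P) (huu : (w * w) * (w * w) = 1)
    (hu1 : w * w ≠ 1) : w * w = z := by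
  by_contra huz
  set u := w * w with hu'
  have hwu : w * u * w⁻¹ = u := by rw [hu']; group
  -- `p ∈ P` not commuting with `u`
  obtain ⟨p, hp, hpu⟩ : ∃ p ∈ P, p * u ≠ u * p := by
    by_contra h1
    push Not at h1
    exact huz (h.eq_z hu hu1 (fun p hp => (h1 p hp).symm))
  have hcom : ∀ q ∈ P, q * u ≠ u * q → q * u * q⁻¹ = z * u := by
    intro q hq hqu
    rcases h.com q hq u hu with h1 | h1
    · exfalso
      apply hqu
      calc q * u = (q * u * q⁻¹ * u⁻¹) * (u * q) := by group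
        _ = u * q := by rw [h1, one_mul]
    · calc q * u * q⁻¹ = (q * u * q⁻¹ * u⁻¹) * u := by group
        _ = z * u := by rw [h1]
  have hzw : w * z * w⁻¹ = z := by
    refine h.eq_z (hw z h.mem) ?_ (fun q hq => ?_)
    · intro h1
      apply h.ne
      calc z = w⁻¹ * (w * z * w⁻¹) * w := by group
        _ = 1 := by rw [h1]; group
    · -- `q = w q' w⁻¹`
      have h1 : w⁻¹ * q * w ∈ P := by
        have h2 : w⁻¹ * q * w = u⁻¹ * (w * q * w⁻¹) * u := by rw [hu']; group
        rw [h2]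
        exact P.mul_mem (P.mul_mem (P.inv_mem hu) (hw q hq)) hu
      have h3 := h.cen _ h1
      calc w * z * w⁻¹ * q = w * (z * (w⁻¹ * q * w)) * w⁻¹ := by group
        _ = w * ((w⁻¹ * q * w) * z) * w⁻¹ := by rw [h3]
        _ = q * (w * z * w⁻¹) := by group
  set q := w * p * w⁻¹ with hq'
  have hq : q ∈ P := hw p hp
  have hqu : q * u * q⁻¹ = z * u := by
    calc q * u * q⁻¹ = w * (p * (w⁻¹ * u * w) * p⁻¹) * w⁻¹ := by rw [hq']; group
      _ = w * (p * u * p⁻¹) * w⁻¹ := by rw [show w⁻¹ * u * w = u by rw [hu']; group]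
      _ = w * (z * u) * w⁻¹ := by rw [hcom p hp hpu]
      _ = (w * z * w⁻¹) * (w * u * w⁻¹) := by group
      _ = z * u := by rw [hzw, hwu]
  -- `e = p⁻¹ q` commutes with `u`
  have he : (p⁻¹ * q) * u = u * (p⁻¹ * q) := by
    have h1 : q * u = p * u * p⁻¹ * q := by
      rw [hcom p hp hpu, ← hqu]; group
    calc (p⁻¹ * q) * u = p⁻¹ * (q * u) := by group
      _ = p⁻¹ * (p * u * p⁻¹ * q) := by rw [h1]
      _ = _ := by group
  have heP : p⁻¹ * q ∈ P := P.mul_mem (P.inv_mem hp) hq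
  have hew : w * (p⁻¹ * q) * w⁻¹ = p⁻¹ * q ∧ (p⁻¹ * q) * (p⁻¹ * q) = 1 := by
    rcases h.four u hu huu hu1 huz _ heP he with h1 | h1 | h1 | h1 <;> rw [h1]
    · exact ⟨by group, by group⟩
    · exact ⟨hzw, h.sq⟩
    · exact ⟨hwu, huu⟩
    · refine ⟨?_, ?_⟩
      · calc w * (u * z) * w⁻¹ = (w * u * w⁻¹) * (w * z * w⁻¹) := by group
          _ = u * z := by rw [hzw, hwu]
      · calc u * z * (u * z) = u * (z * u) * z := by group
          _ = u * (u * z) * z := by rw [h.cen u hu]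
          _ = (u * u) * (z * z) := by group
          _ = 1 := by rw [huu, h.sq, one_mul]
  apply hpu
  have h5 : u * p * u⁻¹ = p := by
    calc u * p * u⁻¹ = w * (w * p * w⁻¹) * w⁻¹ := by rw [hu']; group
      _ = w * q * w⁻¹ := by rw [← hq']
      _ = (w * p * w⁻¹) * (w * (p⁻¹ * q) * w⁻¹) := by group
      _ = q * (p⁻¹ * q) := by rw [hew.1, ← hq']
      _ = p * ((p⁻¹ * q) * (p⁻¹ * q)) := by group
      _ = p := by rw [hew.2, mul_one]
  calc p * u = (u * p * u⁻¹) * u := by rw [h5]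
    _ = u * p := by group

end Dih

/-! ### subgroups of groups of type `A₇` -/

variable {G : Type*} [Group G] [Finite G]

/-- 2-subgroups of order 8 are dihedral -/
theorem dih_of_card {K X : Subgroup G} (M : Lab K) (hX : IsPGroup 2 ↥X) (hXK : X ≤ K)
    (h8 : Nat.card ↥X = 8) : ∃ z, Dih X z := by
  obtain ⟨M', -, -, h1⟩ := exists_lab_W0 M hX (hXK.trans le_normalizer)
  have hP : ∀ x ∈ X, M'.φ x ∈ P0 := by
    intro x hx
    rw [mem_P0]
    refine ⟨h1 x hx, ?_⟩
    have := M'.mem_alt x (hXK hx)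
    rwa [alt_univ, mem_alternatingGroup] at this
  let f : ↥X →* ↥P0 :=
    { toFun := fun x => ⟨M'.φ x, hP x x.2⟩
      map_one' := Subtype.ext M'.one
      map_mul' := fun p q => Subtype.ext (M'.mul _ _ (le_normalizer (hXK p.2)) (le_normalizer (hXK q.2))) }
  have hf : Function.Injective f := by
    intro x y hxy
    have h2 : M'.φ x = M'.φ y := congrArg Subtype.val hxy
    rw [M'.eq_iff (hXK x.2) (hXK y.2)] at h2
    obtain ⟨n, hn⟩ := hX (x⁻¹ * y)
    have h3 : (x : G)⁻¹ * y = 1 := eq_one_of_mem_core h2 (n := n) (congrArg Subtype.val hn)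
    exact Subtype.ext (inv_mul_eq_one.1 h3)
  have hb : Function.Bijective f := (Nat.bijective_iff_injective_and_card f).2 ⟨hf, by
    rw [h8, card_P0]⟩
  exact ⟨_, dih_of_equiv (P0equiv.trans (MulEquiv.ofBijective f hb).symm)⟩

/-- an involution normalizing `K` commutes with a dihedral subgroup of order 8 -/
theorem card_syl_cent' {H K R : Subgroup G} (M : Lab K) (hK : IsComp H K) {e : G} (heH : e ∈ H)
    (he : e ∈ normalizer (K : Set G)) (hee : e * e = 1)
    (hR : IsSyl (K ⊓ centralizer ({e} : Set G)) R) : Nat.card ↥R = 8 := by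
  by_cases h1 : M.φ e = 1
  · have hf : Fixes e K := (M.fixes_iff he).1 h1
    obtain ⟨-, h2⟩ := isComp_cen hK heH hee hf
    -- `cen K e` has a label
    have h7 : (Finset.univ : Finset (Fin 7)).card = 7 := by rw [Finset.card_univ, Fintype.card_fin]
    have h3 := Subgroup.card_dvd_of_surjective _ (M.homC_surjective he (n := 1) (by
      rw [pow_one, pow_two, hee]))
    have h4 : 8 ∣ Nat.card ↥(K ⊓ centralizer ({e} : Set G)) := by
      refine dvd_trans ?_ h3
      rw [alt_univ, h1]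
      have h5 : alternatingGroup (Fin 7) ⊓ centralizer ({(1 : Perm (Fin 7))} : Set (Perm (Fin 7))) =
          alternatingGroup (Fin 7) := by
        rw [inf_eq_left]
        intro σ _
        rw [mem_centralizer_singleton_iff, mul_one, one_mul]
      rw [h5]
      have h6 : P0 ≤ alternatingGroup (Fin 7) := by
        intro σ hσ
        rw [mem_alternatingGroup]
        exact (mem_P0.1 hσ).2
      have h8 := card_dvd_of_le h6
      rwa [card_P0] at h8
    have h5 := hR.dvd_card (k := 3) (by norm_num; exact h4)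
    have h6 := card_two_le M hR.two (hR.le.trans inf_le_left)
    have h8 : 0 < Nat.card ↥R := Nat.card_pos
    have h9 := Nat.le_of_dvd h8 h5
    norm_num at h9
    omega
  · exact card_syl_cent M he hee h1 hR

/-- if the commuting dihedral groups `X`, `X'` act on `K` then `z` or `z'` is trivial on `K` -/
theorem fixes_of_two {K X X' : Subgroup G} {z z' : G} (M : Lab K) (hX : Dih X z) (hX' : Dih X' z')
    (hXK : X ≤ normalizer (K : Set G)) (hXK' : X' ≤ normalizer (K : Set G))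
    (hc : ∀ x ∈ X, ∀ y ∈ X', x * y = y * x) (hz : ¬ Fixes z K) : Fixes z' K := by
  obtain ⟨Y, hY2, hYK, hXY, hXY'⟩ : ∃ Y : Subgroup G, IsPGroup 2 ↥Y ∧ Y ≤ normalizer (K : Set G) ∧ X ≤ Y ∧ X' ≤ Y := by
    refine ⟨X ⊔ X', ?_, sup_le hXK hXK', le_sup_left, le_sup_right⟩
    have h1 : X' ≤ normalizer (X : Set G) := by
      intro y hy
      rw [mem_normalizer_iff_cj]
      ext x
      rw [IntrinsicBasic.mem_cj]
      constructor
      · intro h2
        have h3 := hc _ h2 y hy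
        have h4 : y⁻¹ * x * y * y = x * y := by
          have h5 : y⁻¹ * x * y * y = y * (y⁻¹ * x * y) := h3
          rw [h5]; group
        have h5 : y⁻¹ * x * y = x := mul_right_cancel h4
        rwa [h5] at h2
      · intro h2
        have h3 := hc _ h2 y hy
        rw [mul_assoc, h3]
        simpa using h2
    exact IsPGroup.to_sup_of_normal_left' hX.isPGroup hX'.isPGroup h1
  obtain ⟨M', -, -, hM'⟩ := exists_lab_W0 M hY2 hYK
  obtain ⟨p, hp, q, hq, hpq, hpqz⟩ := hX.eights.exists_comm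
  obtain ⟨p', hp', q', hq', hpq', hpqz'⟩ := hX'.eights.exists_comm
  have hne : M'.φ p * M'.φ q ≠ M'.φ q * M'.φ p := by
    intro h1
    apply hz
    rw [← M'.fixes_iff (hXK hX.mem), ← hpqz]
    have e1 : p * q * p⁻¹ * q⁻¹ = (p * q) * (q * p)⁻¹ := by group
    rw [e1, M'.mul _ _ (mul_mem (hXK hp) (hXK hq)) (inv_mem (mul_mem (hXK hq) (hXK hp))),
      M'.inv (mul_mem (hXK hq) (hXK hp)), M'.mul _ _ (hXK hp) (hXK hq), M'.mul _ _ (hXK hq) (hXK hp), h1,
      mul_inv_cancel]
  have hcom : ∀ y ∈ X', M'.φ y = 1 ∨ M'.φ y = z0 ∨ M'.φ y = w0 ∨ M'.φ y = z0 * w0 := by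
    intro y hy
    refine mem_four (hM' p (hXY hp)) (hM' q (hXY hq)) (hM' y (hXY' hy)) hne ?_ ?_
    · exact M'.comm (hXK' hy) (hXK hp) (hc p hp y hy).symm
    · exact M'.comm (hXK' hy) (hXK hq) (hc q hq y hy).symm
  have h1 : M'.φ p' * M'.φ q' = M'.φ q' * M'.φ p' := by
    rcases hcom p' hp' with e | e | e | e <;> rcases hcom q' hq' with e' | e' | e' | e' <;> rw [e, e'] <;> decide
  rw [← M'.fixes_iff (hXK' hX'.mem), ← hpqz']
  have e1 : p' * q' * p'⁻¹ * q'⁻¹ = (p' * q') * (q' * p')⁻¹ := by group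
  rw [e1, M'.mul _ _ (mul_mem (hXK' hp') (hXK' hq')) (inv_mem (mul_mem (hXK' hq') (hXK' hp'))),
    M'.inv (mul_mem (hXK' hq') (hXK' hp')), M'.mul _ _ (hXK' hp') (hXK' hq'), M'.mul _ _ (hXK' hq') (hXK' hp'), h1,
    mul_inv_cancel]

end Cfsg.Agent.UGT.A7.BThree
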