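import Cfsg.Agent.UGT.A7.BThree.PartT

/-!
# World 3 of the β-branch of [A7]: the parts of the Sylow 2-subgroups of `G` (4)

* `W3.ps`: every Sylow 2-subgroup of `G` has a system of parts.
-/

set_option autoImplicit false
set_option linter.unusedSectionVars false

open Cfsg Subgroup Equiv Equiv.Perm
open Cfsg.Agent.UAlt
open Cfsg.Agent.SignalizersComponents Cfsg.Agent.Lib
open Cfsg.Agent.SignalizersComponents.IntrinsicBasic
open Cfsg.Agent.Intrinsic.Basic Cfsg.Agent.Intrinsic.Cen Cfsg.Agent.Intrinsic.Diag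
open Cfsg.Agent.UGT.Triple Cfsg.Agent.UGT.TriBase
open Cfsg.Agent.UGT.A7.B.One
open Cfsg.Agent.UGT.A7.B (Fam TrivUp DiagUp F1 WW DP A1 AA FS)
open scoped commutatorElement

namespace Cfsg.Agent.UGT.A7.BThree

variable {G : Type*} [Group G] [Finite G]

/-- `T < S` 2-groups: `N_S(T) > T` -/
theorem exists_normalizing {S T : Subgroup G} (hS : IsPGroup 2 ↥S) (hTS : T ≤ S)
    (hne : T ≠ S) : ∃ t ∈ S, cj t T = T ∧ t ∉ T := by
  have hp : Fact (Nat.Prime 2) := ⟨Nat.prime_two⟩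
  have hnil : Group.IsNilpotent ↥S := hS.isNilpotent
  have h1 : T.subgroupOf S < ⊤ := by
    rw [lt_top_iff_ne_top]
    intro h
    rw [subgroupOf_eq_top] at h
    exact hne (le_antisymm hTS h)
  have h2 := Group.normalizerCondition_of_isNilpotent _ h1
  obtain ⟨t, ht1, ht2⟩ := SetLike.exists_of_lt h2
  refine ⟨t, t.2, ?_, ht2⟩
  rw [← mem_normalizer_iff_cj]
  rw [mem_normalizer_iff] at ht1 ⊢
  intro y
  constructor
  · intro hy
    exact (ht1 ⟨y, hTS hy⟩).mp hy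
  · intro hy
    have hyS : y ∈ S := by
      have := S.mul_mem (S.mul_mem (S.inv_mem t.2) (hTS hy)) t.2
      convert this using 1
      group
    exact (ht1 ⟨y, hyS⟩).mpr hy

/-- an element of `N(V)`, `V` generated by `D ∩ V` -/
theorem cj_closure {D : Set G} (hD : ∀ e ∈ D, ∀ g : G, g * e * g⁻¹ ∈ D) {N : Subgroup G} {g : G} (hg : cj g N = N) :
    cj g (closure (D ∩ (N : Set G))) = closure (D ∩ (N : Set G)) := by
  have key : ∀ g : G, cj g N = N → cj g (closure (D ∩ (N : Set G))) ≤ closure (D ∩ (N : Set G)) := by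
    intro g hg
    rw [cj_def, Subgroup.map_le_iff_le_comap, closure_le]
    rintro x ⟨hx, hxN⟩
    refine subset_closure ⟨hD x hx g, ?_⟩
    change g * x * g⁻¹ ∈ N
    rw [← hg]
    exact conj_mem_cj hxN
  refine le_antisymm (key g hg) ?_
  have h1 : cj g⁻¹ N = N := by
    conv_lhs => rw [← hg]
    exact cj_inv_cj g N
  have h2 := cj_mono (g := g) (key g⁻¹ h1)
  rwa [cj_cj_inv] at h2

namespace PS

variable {D : Set G} {V : Subgroup G} {𝔓 : Set (Subgroup G)}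

/-- an element of `D` normalizing `V` fixes all parts of `V` -/
theorem fix_of_D (W : W3 D) (H : PS D V 𝔓) {e : G} (he : e ∈ D) (heV : IntrinsicBasic.cj e V = V) :
    ∀ P ∈ 𝔓, IntrinsicBasic.cj e P = P := by
  by_cases h1 : ∃ P ∈ 𝔓, IntrinsicBasic.cj e P = P
  · obtain ⟨P, hP, h1⟩ := h1
    obtain ⟨z, hz⟩ := H.dih P hP
    have hzD : z ∈ D := H.inD P hP z hz.mem hz.sq hz.ne
    have hez := dih_fix hz h1
    exact (H.fixall_iff W heV hzD (H.le P hP hz.mem) hez).1 fun M hM => W.c2 z e M hM he hez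
  · push Not at h1
    exfalso
    obtain ⟨P₁, hP₁, -, -⟩ := H.three ⊥ ⊥
    have hP₂ := H.perm W heV hP₁
    obtain ⟨R, hR, hR1, hR2⟩ := H.three P₁ (IntrinsicBasic.cj e P₁)
    obtain ⟨z₁, hz₁⟩ := H.dih P₁ hP₁
    have hz₂ := hz₁.cj e
    have hz1D : z₁ ∈ D := H.inD P₁ hP₁ z₁ hz₁.mem hz₁.sq hz₁.ne
    have hne : P₁ ≠ IntrinsicBasic.cj e P₁ := (h1 P₁ hP₁).symm
    have hee : e * e = 1 := W.sq he
    have hei : e⁻¹ = e := inv_eq_of_mul_eq_one_right hee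
    have hzz : z₁ * (e * z₁ * e⁻¹) = (e * z₁ * e⁻¹) * z₁ := H.comm hP₁ hP₂ hne hz₁.mem hz₂.mem
    obtain ⟨f, hf⟩ : ∃ f, f = z₁ * (e * z₁ * e⁻¹) := ⟨_, rfl⟩
    have hf1 : f ≠ 1 := by
      intro h2
      have h3 : e * z₁ * e⁻¹ = z₁ := by
        have h4 : z₁ * (e * z₁ * e⁻¹) = z₁ * z₁ := by rw [hz₁.sq, ← hf]; exact h2
        exact mul_left_cancel h4
      exact hz₁.ne (H.inf hP₁ hP₂ hne hz₁.mem (by rw [← h3]; exact hz₂.mem))
    have hff : f * f = 1 := by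
      calc f * f = z₁ * ((e * z₁ * e⁻¹) * z₁) * (e * z₁ * e⁻¹) := by rw [hf]; group
        _ = z₁ * (z₁ * (e * z₁ * e⁻¹)) * (e * z₁ * e⁻¹) := by rw [hzz]
        _ = (z₁ * z₁) * ((e * z₁ * e⁻¹) * (e * z₁ * e⁻¹)) := by group
        _ = 1 := by rw [hz₁.sq, hz₂.sq, one_mul]
    have hef : e * f = f * e := by
      have h2 : e * f * e⁻¹ = f := by
        calc e * f * e⁻¹ = (e * z₁ * e⁻¹) * (e * e * z₁ * (e⁻¹ * e⁻¹)) := by rw [hf]; group
          _ = (e * z₁ * e⁻¹) * z₁ := by rw [hei, hee, one_mul, mul_one]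
          _ = f := by rw [hf, hzz]
      calc e * f = (e * f * e⁻¹) * e := by group
        _ = f * e := by rw [h2]
    have hfz : f * z₁ = z₁ * f := by
      calc f * z₁ = z₁ * ((e * z₁ * e⁻¹) * z₁) := by rw [hf]; group
        _ = z₁ * (z₁ * (e * z₁ * e⁻¹)) := by rw [hzz]
        _ = z₁ * f := by rw [hf]
    obtain ⟨M, hM, hRM⟩ := H.memb P₁ hP₁ R hR (Ne.symm hR1) z₁ hz₁.mem hz1D
    obtain ⟨M₂, hM₂, hPM₂⟩ := H.memb P₁ hP₁ _ hP₂ hne z₁ hz₁.mem hz1D
    have hMM : M₂ ≠ M := by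
      rintro rfl
      exact hR2 (H.eq_of_le' hP₂ hR hM₂ hPM₂ hRM)
    have hfM : Fixes f M := by
      rw [hf]
      exact fixes_mul (fam_self hM) (fam_fix hM₂ hM hMM (hPM₂ hz₂.mem))
    obtain ⟨N, hN⟩ := W.up hz1D hM (ord2 hff hf1) hfz hfM
    obtain ⟨z, hz⟩ := H.dih R hR
    have hRN : R ≤ N := by
      intro r hr
      refine hN.mem (hRM hr) ?_ (hz.pow_eq hr)
      have e1 : r * z₁ = z₁ * r := H.comm hR hP₁ hR1 hr hz₁.mem
      have e2 : r * (e * z₁ * e⁻¹) = (e * z₁ * e⁻¹) * r := H.comm hR hP₂ hR2 hr hz₂.mem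
      calc r * f = (r * z₁) * (e * z₁ * e⁻¹) := by rw [hf]; group
        _ = z₁ * (r * (e * z₁ * e⁻¹)) := by rw [e1]; group
        _ = f * r := by rw [e2, hf]; group
    have h2 := W.c2 f e N hN.ft he hef
    have h3 : IntrinsicBasic.cj e R ≤ N := by
      rw [← h2]; exact cj_mono hRN
    exact h1 R hR (H.eq_of_le' hR (H.perm W heV hR) hN.ft hRN h3)

end PS

namespace W3

variable {D : Set G} (W : W3 D)

include W

theorem exists_ps : ∃ (S : Sylow 2 G) (𝔓 : Set (Subgroup G)), PS D (S : Subgroup G) 𝔓 := by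
  obtain ⟨a, ha⟩ := W.ne
  obtain ⟨K₁, T, TT⟩ := exists_ts W ha
  obtain ⟨𝔓, H⟩ := TT.exists_ps
  obtain ⟨S, hTS⟩ := exists_sylow_ge (G := G) TT.two
  have hS : IsPGroup 2 ↥(S : Subgroup G) := S.2
  set V : Subgroup G := closure (D ∩ (T : Set G)) with hV
  have hVT : V ≤ T := by
    rw [hV, closure_le]
    exact Set.inter_subset_right
  have HV : PS D V 𝔓 := H.restrict hVT fun P hP => by
    obtain ⟨z, hz⟩ := H.dih P hP
    exact hz.le_of_inv fun u hu huu hu1 => subset_closure ⟨H.inD P hP u hu huu hu1, H.le P hP hu⟩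
  -- `D ∩ N_S(V) = D ∩ T`
  have key : ∀ e ∈ D, e ∈ (S : Subgroup G) → cj e V = V → e ∈ T := by
    intro e he heS heV
    obtain ⟨P, hP, haP⟩ := H.cov a ha TT.aT
    obtain ⟨z, hz⟩ := H.dih P hP
    have haz : a = z := hz.eq_z haP (W.ne1 ha) fun p hp => (TT.ta (H.le P hP hp)).symm
    have h1 : e * z = z * e := dih_fix hz (HV.fix_of_D W he heV P hP)
    rw [← haz] at h1
    exact mem_of_fix TT.hT hS hTS heS (mem_c h1)
  set N : Subgroup G := (S : Subgroup G) ⊓ normalizer (V : Set G) with hN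
  have hTN : T ≤ N := by
    intro t ht
    exact ⟨hTS ht, mem_normalizer_iff_cj.2 (cj_closure W.conj (cj_eq_self_of_mem ht))⟩
  have hDN : D ∩ (N : Set G) = D ∩ (T : Set G) := by
    ext e
    constructor
    · rintro ⟨he, heN⟩
      exact ⟨he, key e he heN.1 (mem_normalizer_iff_cj.1 heN.2)⟩
    · rintro ⟨he, heT⟩
      exact ⟨he, hTN heT⟩
  have hNS : N = S := by
    by_contra hne
    obtain ⟨t, ht, htN, htn⟩ := exists_normalizing hS inf_le_left hne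
    apply htn
    refine ⟨ht, mem_normalizer_iff_cj.2 ?_⟩
    have h1 := cj_closure W.conj htN
    rwa [hDN] at h1
  refine ⟨S, 𝔓, H.extend hS hTS fun d hd hdS => ?_⟩
  have h1 : d ∈ D ∩ (N : Set G) := ⟨hd, by rw [hNS]; exact hdS⟩
  rw [hDN] at h1
  exact h1.2

/-- **(4)** every Sylow 2-subgroup has a system of parts -/
theorem ps (S : Sylow 2 G) : ∃ 𝔓, PS D (S : Subgroup G) 𝔓 := by
  obtain ⟨S₀, 𝔓, H⟩ := W.exists_ps
  obtain ⟨g, hg⟩ := MulAction.exists_smul_eq G S₀ S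
  have h1 := H.cj W.conj g
  have h2 : cj g (S₀ : Subgroup G) = (S : Subgroup G) := by
    rw [← hg]
    rfl
  rw [h2] at h1
  exact ⟨_, h1⟩

/-- a 2-group is contained in a Sylow 2-subgroup with a system of parts -/
theorem ps_ge {Q : Subgroup G} (hQ : IsPGroup 2 ↥Q) : ∃ (S : Sylow 2 G) (𝔓 : Set (Subgroup G)), Q ≤ S ∧
    PS D (S : Subgroup G) 𝔓 := by
  obtain ⟨S, hS⟩ := exists_sylow_ge (G := G) hQ
  obtain ⟨𝔓, H⟩ := W.ps S
  exact ⟨S, 𝔓, hS, H⟩

end W3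

end Cfsg.Agent.UGT.A7.BThree
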