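import Cfsg.Agent.UGT.A7.BThree.Com

/-!
# World 3 of the β-branch of [A7]: systems of parts

`PS D S 𝔓`: `𝔓` is the set of the parts of the 2-group `S`: dihedral groups whose involutions are the elements of
`D ∩ S`.
-/

set_option autoImplicit false
set_option linter.unusedSectionVars false

open Cfsg Subgroup Equiv Equiv.Perm
open Cfsg.Agent.UAlt
open Cfsg.Agent.SignalizersComponents Cfsg.Agent.Lib
open Cfsg.Agent.SignalizersComponents.IntrinsicBasic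
open Cfsg.Agent.Intrinsic.Basic Cfsg.Agent.Intrinsic.Cen Cfsg.Agent.Intrinsic.Diag
open Cfsg.Agent.UGT.Triple Cfsg.Agent.UGT.TriBase
open Cfsg.Agent.UGT.A7.B.One
open Cfsg.Agent.UGT.A7.B (Fam TrivUp DiagUp F1 WW DP A1 AA FS)
open scoped commutatorElement

namespace Cfsg.Agent.UGT.A7.BThree

variable {G : Type*} [Group G] [Finite G]

/-! ### dihedral Sylow subgroups -/

theorem isSyl_of_dih {K Q : Subgroup G} {z : G} (M : Lab K) (hQ : Dih Q z) (hQK : Q ≤ K) : IsSyl K Q where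
  two := hQ.isPGroup
  le := hQK
  max := by
    intro R hR hRK hQR
    have h1 := card_two_le M hR hRK
    have h2 := hQ.card
    exact (Subgroup.eq_of_le_of_card_ge hQR (by omega)).symm

theorem fam_syl {s : G} {K Q : Subgroup G} {z : G} (h : Fam s K) (hQ : Dih Q z) (hQK : Q ≤ K) : IsSyl K Q := by
  obtain ⟨M⟩ := h.a7
  exact isSyl_of_dih M hQ hQK

theorem fam_inf {s : G} {K Q S : Subgroup G} {z : G} (h : Fam s K) (hQ : Dih Q z) (hQK : Q ≤ K) (hS : IsPGroup 2 ↥S)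
    (hQS : Q ≤ S) : S ⊓ K = Q :=
  (fam_syl h hQ hQK).max _ (hS.to_le inf_le_left) inf_le_right (le_inf hQS hQK)

theorem dih_fix {P : Subgroup G} {z s : G} (hP : Dih P z) (hs : cj s P = P) : s * z = z * s := by
  have h1 : s * z * s⁻¹ = z := by
    have h2 := hP.cj s
    rw [hs] at h2
    exact hP.eq_z h2.mem h2.ne h2.cen
  calc s * z = (s * z * s⁻¹) * s := by group
    _ = z * s := by rw [h1]

theorem eq_of_dih_le {P Q : Subgroup G} {z z' : G} (hP : Dih P z) (hQ : Dih Q z') (h : P ≤ Q) : P = Q :=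
  Subgroup.eq_of_le_of_card_ge h (by rw [hP.card, hQ.card])

theorem fixes_one (K : Subgroup G) : Fixes (1 : G) K := BProd.mem_FixK.1 (BProd.FixK K).one_mem

theorem fixes_mul {K : Subgroup G} {x y : G} (hx : Fixes x K) (hy : Fixes y K) : Fixes (x * y) K :=
  BProd.mem_FixK.1 ((BProd.FixK K).mul_mem hx hy)

/-! ### systems of parts -/

/-- the system of parts of `S` -/
structure PS (D : Set G) (S : Subgroup G) (𝔓 : Set (Subgroup G)) : Prop where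
  two : IsPGroup 2 ↥S
  le : ∀ P ∈ 𝔓, P ≤ S
  dih : ∀ P ∈ 𝔓, ∃ z, Dih P z
  inD : ∀ P ∈ 𝔓, ∀ d ∈ P, d * d = 1 → d ≠ 1 → d ∈ D
  cov : ∀ d ∈ D, d ∈ S → ∃ P ∈ 𝔓, d ∈ P
  memb : ∀ P ∈ 𝔓, ∀ Q ∈ 𝔓, P ≠ Q → ∀ d ∈ P, d ∈ D → ∃ M, Fam d M ∧ Q ≤ M
  all : ∀ P ∈ 𝔓, ∀ d ∈ P, d ∈ D → ∀ M, Fam d M → ∃ Q ∈ 𝔓, Q ≠ P ∧ Q ≤ M
  three : ∀ P Q : Subgroup G, ∃ R ∈ 𝔓, R ≠ P ∧ R ≠ Q

namespace PS

variable {D : Set G} {S : Subgroup G} {𝔓 : Set (Subgroup G)}

theorem cj (hD : ∀ e ∈ D, ∀ g : G, g * e * g⁻¹ ∈ D) (H : PS D S 𝔓) (g : G) :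
    PS D (IntrinsicBasic.cj g S) (IntrinsicBasic.cj g '' 𝔓) where
  two := isPGroup_cj H.two
  le := by
    rintro _ ⟨P, hP, rfl⟩
    exact cj_mono (H.le P hP)
  dih := by
    rintro _ ⟨P, hP, rfl⟩
    obtain ⟨z, hz⟩ := H.dih P hP
    exact ⟨_, hz.cj g⟩
  inD := by
    rintro _ ⟨P, hP, rfl⟩ d hd hdd hd1
    have h1 := H.inD P hP _ (mem_cj.1 hd) (by
      calc g⁻¹ * d * g * (g⁻¹ * d * g) = g⁻¹ * (d * d) * g := by group
        _ = 1 := by rw [hdd]; group) (by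
      intro h2
      apply hd1
      calc d = g * (g⁻¹ * d * g) * g⁻¹ := by group
        _ = 1 := by rw [h2]; group)
    have h2 := hD _ h1 g
    have h3 : g * (g⁻¹ * d * g) * g⁻¹ = d := by group
    rwa [h3] at h2
  cov := by
    intro d hd hdS
    obtain ⟨P, hP, h1⟩ := H.cov (g⁻¹ * d * g) (by
      have := hD d hd g⁻¹
      rwa [inv_inv] at this) (mem_cj.1 hdS)
    exact ⟨_, ⟨P, hP, rfl⟩, mem_cj.2 h1⟩
  memb := by
    rintro _ ⟨P, hP, rfl⟩ _ ⟨Q, hQ, rfl⟩ hPQ d hd hdD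
    obtain ⟨M, h1, h2⟩ := H.memb P hP Q hQ (fun h => hPQ (by rw [h])) _ (mem_cj.1 hd) (by
      have := hD d hdD g⁻¹
      rwa [inv_inv] at this)
    have h3 := fam_cj h1 g
    have h4 : g * (g⁻¹ * d * g) * g⁻¹ = d := by group
    rw [h4] at h3
    exact ⟨_, h3, cj_mono h2⟩
  all := by
    rintro _ ⟨P, hP, rfl⟩ d hd hdD M hM
    obtain ⟨Q, hQ, h1, h2⟩ := H.all P hP _ (mem_cj.1 hd) (by
      have := hD d hdD g⁻¹
      rwa [inv_inv] at this) (IntrinsicBasic.cj g⁻¹ M) (by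
      have := fam_cj hM g⁻¹
      rwa [inv_inv] at this)
    refine ⟨_, ⟨Q, hQ, rfl⟩, fun h3 => h1 (cj_injective g h3), ?_⟩
    have := cj_mono (g := g) h2
    rwa [cj_cj_inv] at this
  three := by
    intro P Q
    obtain ⟨R, hR, h1, h2⟩ := H.three (IntrinsicBasic.cj g⁻¹ P) (IntrinsicBasic.cj g⁻¹ Q)
    refine ⟨_, ⟨R, hR, rfl⟩, ?_, ?_⟩
    · rintro rfl
      exact h1 (cj_inv_cj g R).symm
    · rintro rfl
      exact h2 (cj_inv_cj g R).symm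

theorem restrict (H : PS D S 𝔓) {V : Subgroup G} (hV : V ≤ S) (hP : ∀ P ∈ 𝔓, P ≤ V) : PS D V 𝔓 where
  two := H.two.to_le hV
  le := hP
  dih := H.dih
  inD := H.inD
  cov := fun d hd hdV => H.cov d hd (hV hdV)
  memb := H.memb
  all := H.all
  three := H.three

theorem extend (H : PS D S 𝔓) {V : Subgroup G} (hV : IsPGroup 2 ↥V) (hSV : S ≤ V) (hD : ∀ d ∈ D, d ∈ V → d ∈ S) :
    PS D V 𝔓 where
  two := hV
  le := fun P hP => (H.le P hP).trans hSV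
  dih := H.dih
  inD := H.inD
  cov := fun d hd hdV => H.cov d hd (hD d hd hdV)
  memb := H.memb
  all := H.all
  three := H.three

variable (H : PS D S 𝔓)

include H

/-- different parts commute -/
theorem comm {P Q : Subgroup G} (hP : P ∈ 𝔓) (hQ : Q ∈ 𝔓) (hne : P ≠ Q) {p q : G} (hp : p ∈ P) (hq : q ∈ Q) :
    p * q = q * p := by
  obtain ⟨z, hz⟩ := H.dih P hP
  have h1 : P ≤ centralizer ({q} : Set G) := by
    refine hz.le_of_inv fun u hu huu hu1 => ?_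
    obtain ⟨M, h1, h2⟩ := H.memb P hP Q hQ hne u hu (H.inD P hP u hu huu hu1)
    exact mem_c (fam_comm h1 (h2 hq)).symm
  exact comm_c (h1 hp)

/-- a nontrivial element of a part has a power in `D` -/
theorem exists_D {P : Subgroup G} (hP : P ∈ 𝔓) {x : G} (hx : x ∈ P) (hx1 : x ≠ 1) :
    ∃ d ∈ D, d * d = 1 ∧ (d = x ∨ d = x * x) := by
  obtain ⟨z, hz⟩ := H.dih P hP
  rcases hz.pow_or x hx with h1 | h1
  · exact ⟨x, H.inD P hP x hx h1 hx1, h1, Or.inl rfl⟩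
  · exact ⟨x * x, H.inD P hP _ (P.mul_mem hx hx) (by rw [h1, hz.sq]) (by rw [h1]; exact hz.ne), by rw [h1, hz.sq],
      Or.inr rfl⟩

theorem inf {P Q : Subgroup G} (hP : P ∈ 𝔓) (hQ : Q ∈ 𝔓) (hne : P ≠ Q) {x : G} (hp : x ∈ P) (hq : x ∈ Q) : x = 1 := by
  by_contra hx1
  obtain ⟨d, hd, hdd, h1⟩ := H.exists_D hP hp hx1
  have h2 : d ∈ P ∧ d ∈ Q := by
    rcases h1 with rfl | rfl
    · exact ⟨hp, hq⟩
    · exact ⟨P.mul_mem hp hp, Q.mul_mem hq hq⟩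
  obtain ⟨M, h3, h4⟩ := H.memb P hP Q hQ hne d h2.1 hd
  exact fam_not_fix h3 (h4 h2.2) (sq_pow hdd) (fam_ne h3) (fam_self h3)

theorem eq_of_mem {P Q : Subgroup G} (hP : P ∈ 𝔓) (hQ : Q ∈ 𝔓) {x : G} (hp : x ∈ P) (hq : x ∈ Q) (hx : x ≠ 1) :
    P = Q := by
  by_contra h
  exact hx (H.inf hP hQ h hp hq)

/-- an element of another part in a member: impossible -/
theorem eq_of_le {Q Q' K : Subgroup G} {s : G} (hQ : Q ∈ 𝔓) (hQ' : Q' ∈ 𝔓) (hK : Fam s K) (h : Q ≤ K)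
    {x : G} (hx : x ∈ K) (hxQ : x ∈ Q') (hxx : x * x = 1) (hx1 : x ≠ 1) : Q' = Q := by
  by_contra hne
  obtain ⟨z, hz⟩ := H.dih Q hQ
  have h1 : x ∈ Q := mem_of_comm (fam_syl hK hz h) hx (fun t ht => H.comm hQ' hQ hne hxQ ht) hxx
  exact hx1 (H.inf hQ' hQ hne hxQ h1)

theorem eq_of_le' {Q Q' K : Subgroup G} {s : G} (hQ : Q ∈ 𝔓) (hQ' : Q' ∈ 𝔓) (hK : Fam s K) (h : Q ≤ K)
    (h' : Q' ≤ K) : Q' = Q := by
  obtain ⟨z, hz⟩ := H.dih Q' hQ'
  exact H.eq_of_le hQ hQ' hK h (h' hz.mem) hz.mem hz.sq hz.ne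

/-- `S ∩ M` is a part -/
theorem inf_eq {Q M : Subgroup G} {s : G} (hQ : Q ∈ 𝔓) (hM : Fam s M) (h : Q ≤ M) : S ⊓ M = Q := by
  obtain ⟨z, hz⟩ := H.dih Q hQ
  exact fam_inf hM hz h H.two (H.le Q hQ)

/-- `C_P(d)` fixes the members of `U(d)` -/
theorem fix (W : W3 D) {P : Subgroup G} (hP : P ∈ 𝔓) {d q : G} (hd : d ∈ P) (hdD : d ∈ D) (hq : q ∈ P)
    (hqd : q * d = d * q) {M : Subgroup G} (hM : Fam d M) : Fixes q M := by
  have key : ∀ u ∈ P, u * u = 1 → u * d = d * u → Fixes u M := by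
    intro u hu huu hud
    by_cases hu1 : u = 1
    · rw [hu1]; exact fixes_one M
    by_contra hn
    obtain ⟨h1, -⟩ := W.c1_mem hdD (H.inD P hP u hu huu hu1) hud hM hn
    obtain ⟨Q, hQ, h2, h3⟩ := H.all P hP d hd hdD M hM
    exact h2 (H.eq_of_le hQ hP hM h3 h1 hu huu hu1).symm
  obtain ⟨z, hz⟩ := H.dih P hP
  by_cases h1 : d = z
  · obtain ⟨u, hu, v, hv, huu, hvv, rfl⟩ := hz.prod q hq
    refine fixes_mul (key u hu huu ?_) (key v hv hvv ?_)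
    · rw [h1]; exact (hz.cen u hu).symm
    · rw [h1]; exact (hz.cen v hv).symm
  · refine key q hq ?_ hqd
    have hdd := W.sq hdD
    rcases hz.four d hd hdd (W.ne1 hdD) h1 q hq hqd with h2 | h2 | h2 | h2
    · rw [h2, mul_one]
    · rw [h2]; exact hz.sq
    · rw [h2]; exact hdd
    · rw [h2]
      calc d * z * (d * z) = d * (z * d) * z := by group
        _ = d * (d * z) * z := by rw [hz.cen d hd]
        _ = (d * d) * (z * z) := by group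
        _ = 1 := by rw [hdd, hz.sq, one_mul]

/-- the system of parts is unique -/
theorem subset (W : W3 D) {𝔓' : Set (Subgroup G)} (H' : PS D S 𝔓') : 𝔓 ⊆ 𝔓' := by
  intro P hP
  obtain ⟨z, hz⟩ := H.dih P hP
  have hzD : z ∈ D := H.inD P hP z hz.mem hz.sq hz.ne
  obtain ⟨P', hP', hzP'⟩ := H'.cov z hzD (H.le P hP hz.mem)
  have h1 : P ≤ P' := by
    refine hz.le_of_inv fun u hu huu hu1 => ?_
    have huD : u ∈ D := H.inD P hP u hu huu hu1
    obtain ⟨P'', hP'', huP''⟩ := H'.cov u huD (H.le P hP hu)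
    by_cases h2 : P' = P''
    · rwa [h2]
    · exfalso
      obtain ⟨M, hM, h3⟩ := H'.memb P' hP' P'' hP'' h2 z hzP' hzD
      exact fam_not_fix hM (h3 huP'') (sq_pow huu) hu1 (H.fix W hP hz.mem hzD hu (hz.cen u hu).symm hM)
  obtain ⟨z', hz'⟩ := H'.dih P' hP'
  rw [eq_of_dih_le hz hz' h1]
  exact hP'

theorem unique (W : W3 D) {𝔓' : Set (Subgroup G)} (H' : PS D S 𝔓') : 𝔓 = 𝔓' :=
  Set.Subset.antisymm (H.subset W H') (H'.subset W H)

/-- elements normalizing `S` permute the parts -/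
theorem perm (W : W3 D) {g : G} (hg : IntrinsicBasic.cj g S = S) {P : Subgroup G} (hP : P ∈ 𝔓) :
    IntrinsicBasic.cj g P ∈ 𝔓 := by
  have h1 := H.cj W.conj g
  rw [hg] at h1
  rw [H.unique W h1]
  exact ⟨P, hP, rfl⟩

theorem perm' (W : W3 D) {g : G} (hg : g ∈ S) {P : Subgroup G} (hP : P ∈ 𝔓) : IntrinsicBasic.cj g P ∈ 𝔓 :=
  H.perm W (cj_eq_self_of_mem hg) hP

/-- an element normalizing `S` and commuting with a nontrivial element of `P` fixes `P` -/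
theorem fix_part (W : W3 D) {g : G} (hg : IntrinsicBasic.cj g S = S) {P : Subgroup G} (hP : P ∈ 𝔓) {x : G}
    (hx : x ∈ P) (hx1 : x ≠ 1) (hgx : g * x = x * g) : IntrinsicBasic.cj g P = P := by
  refine H.eq_of_mem (H.perm W hg hP) hP (x := x) ?_ hx hx1
  have := conj_mem_cj (g := g) hx
  rwa [conj_self hgx] at this

/-- an element of `N(S) ∩ C(d)`, `d ∈ D ∩ S`, fixes all members of `U(d)` iff it fixes all parts -/
theorem fixall_iff (W : W3 D) {g d : G} (hg : IntrinsicBasic.cj g S = S) (hd : d ∈ D) (hdS : d ∈ S)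
    (hgd : g * d = d * g) : (∀ M, Fam d M → IntrinsicBasic.cj g M = M) ↔ ∀ Q ∈ 𝔓, IntrinsicBasic.cj g Q = Q := by
  obtain ⟨P, hP, hdP⟩ := H.cov d hd hdS
  constructor
  · intro h Q hQ
    by_cases h1 : P = Q
    · rw [← h1]
      exact H.fix_part W hg hP hdP (W.ne1 hd) hgd
    · obtain ⟨M, hM, h2⟩ := H.memb P hP Q hQ h1 d hdP hd
      rw [← H.inf_eq hQ hM h2, cj_inf, hg, h M hM]
  · intro h M hM
    obtain ⟨Q, hQ, h1, h2⟩ := H.all P hP d hdP hd M hM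
    obtain ⟨z, hz⟩ := H.dih Q hQ
    refine fam_uniq (fam_cj' hM hgd) hM (x := z) ?_ (h2 hz.mem) (sq_pow hz.sq) hz.ne
    have h3 := cj_mono (g := g) h2
    rw [h Q hQ] at h3
    exact h3 hz.mem

end PS

end Cfsg.Agent.UGT.A7.BThree
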