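import Cfsg.Agent.UGT.A7.BThree.Part
import Cfsg.Agent.FixBN.SylSub

/-!
# World 3 of the β-branch of [A7]: the parts of a Sylow 2-subgroup of `C(a)`, `a ∈ D` (2), (3)
-/

set_option autoImplicit false
set_option linter.unusedSectionVars false

open Cfsg Subgroup Equiv Equiv.Perm
open Cfsg.Agent.UAlt
open Cfsg.Agent.SignalizersComponents Cfsg.Agent.Lib
open Cfsg.Agent.SignalizersComponents.IntrinsicBasic
open Cfsg.Agent.Intrinsic.Basic Cfsg.Agent.Intrinsic.Cen Cfsg.Agent.Intrinsic.Diag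
open Cfsg.Agent.UGT.Triple Cfsg.Agent.UGT.TriBase
open Cfsg.Agent.UGT.A7.B.One
open Cfsg.Agent.UGT.A7.B (Fam TrivUp DiagUp F1 WW DP A1 AA FS)
open scoped commutatorElement

namespace Cfsg.Agent.UGT.A7.BThree

variable {G : Type*} [Group G] [Finite G]

/-- Sylow subgroups of `E` meet 2-components in Sylow subgroups -/
theorem syl_comp {E K T : Subgroup G} (hK : IsComp E K) (hT : IsSyl E T) : IsSyl K (T ⊓ K) := by
  have : Fact (Nat.Prime 2) := ⟨Nat.prime_two⟩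
  have h1 : FixBN.SylSub.Syl 2 E T := by
    obtain ⟨P, hP⟩ := hT.exists_sylow
    refine ⟨hT.le, ?_⟩
    rw [← hP, card_map_of_injective E.subtype_injective]
    exact P.card_eq_multiplicity
  have h2 := FixBN.SylSub.Syl.inf hK.le (isComp_iff.1 hK).2.1 h1
  rw [inf_comm] at h2
  refine ⟨hT.two.to_le inf_le_left, inf_le_right, fun R hR hRK hle => ?_⟩
  have h3 := h2.card_le hRK hR
  exact (Subgroup.eq_of_le_of_card_ge hle h3).symm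

/-- a Sylow 2-subgroup of `C(a)` -/
structure TS (D : Set G) (a : G) (K₁ T : Subgroup G) : Prop where
  W : W3 D
  ha : a ∈ D
  hK : Fam a K₁
  hT : IsSyl (centralizer ({a} : Set G)) T
  hT₁ : IsSyl (centralizer ({a} : Set G) ⊓ normalizer (K₁ : Set G)) (T ⊓ normalizer (K₁ : Set G))

theorem exists_ts {D : Set G} (W : W3 D) {a : G} (ha : a ∈ D) : ∃ K₁ T, TS D a K₁ T := by
  obtain ⟨K₁, hK⟩ := W.fam a ha
  obtain ⟨T₁, hT₁, -⟩ := exists_isSyl (E := centralizer ({a} : Set G) ⊓ normalizer (K₁ : Set G)) (R₀ := ⊥)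
    (IsPGroup.of_card (n := 0) (by simp)) bot_le
  obtain ⟨T, hT, hle⟩ := exists_isSyl (E := centralizer ({a} : Set G)) hT₁.two (hT₁.le.trans inf_le_left)
  refine ⟨K₁, T, W, ha, hK, hT, ?_⟩
  have h1 : T ⊓ normalizer (K₁ : Set G) = T₁ := by
    refine hT₁.max _ (hT.two.to_le inf_le_left) ?_ (le_inf hle (hT₁.le.trans inf_le_right))
    exact inf_le_inf hT.le le_rfl
  rwa [h1]

namespace TS

variable {D : Set G} {a : G} {K₁ T : Subgroup G}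

/-- `t ∈ T` fixes all members of `U(a)` -/
def InR (a : G) (T : Subgroup G) (t : G) : Prop := t ∈ T ∧ ∀ K, Fam a K → Fixes t K

variable (S : TS D a K₁ T)

include S

theorem two : IsPGroup 2 ↥T := S.hT.two

theorem ta {t : G} (ht : t ∈ T) : t * a = a * t := comm_c (S.hT.le ht)

theorem aT : a ∈ T := mem_of_comm S.hT (mem_c rfl) (fun _ ht => (S.ta ht).symm) (S.W.sq S.ha)

theorem dihK {K : Subgroup G} (hK : Fam a K) : ∃ z, Dih (T ⊓ K) z := by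
  obtain ⟨M⟩ := hK.a7
  have h1 := syl_comp hK.comp S.hT
  exact dih_of_card M h1.two h1.le (card_syl M h1)

theorem comm_R {K : Subgroup G} (hK : Fam a K) {r p : G} (hr : InR a T r) (hp : p ∈ T ⊓ K) : r * p = p * r := by
  have h1 : ⁅r, p⁆ ∈ core K := (hr.2 K hK).2 p hp.2
  have h2 : ⁅r, p⁆ ∈ T := T.mul_mem (T.mul_mem (T.mul_mem hr.1 hp.1) (T.inv_mem hr.1)) (T.inv_mem hp.1)
  have h3 : ⁅r, p⁆ = 1 := eq_one_of_core S.two h2 h1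
  rwa [commutatorElement_eq_one_iff_mul_comm] at h3

theorem comm_KK {K K' : Subgroup G} (hK : Fam a K) (hK' : Fam a K') (hne : K ≠ K') {p q : G} (hp : p ∈ T ⊓ K)
    (hq : q ∈ T ⊓ K') : p * q = q * p :=
  comm_of_two hK hK' hne S.two hp.2 hq.2 hp.1 hq.1

theorem pw {t : G} (ht : t ∈ T) : ∃ n : ℕ, t ^ 2 ^ n = 1 := by
  obtain ⟨n, hn⟩ := S.two ⟨t, ht⟩
  exact ⟨n, congrArg Subtype.val hn⟩

/-- `a` lies in no pump-up from `U(a)` -/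
theorem a_notin {d : G} {K X : Subgroup G} (h : Up a d K X) : a ∉ X := fun h1 =>
  fam_not_fix h.ft h1 (S.W.pw S.ha) (S.W.ne1 S.ha) h.up.fix

/-- the involutions of `A₁ ∩ T` commuting with `z₁` fix the members of `U(a)` -/
theorem inv_R {z₁ y : G} {A₁ : Subgroup G} (hz : Dih (T ⊓ K₁) z₁) (hA : Fam z₁ A₁) (haA : a ∈ A₁)
    (hyT : y ∈ T) (hyA : y ∈ A₁) (hyy : y * y = 1) (hy1 : y ≠ 1) : ∀ K, Fam a K → Fixes y K := by
  have W := S.W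
  have hz2 := ord2 hz.sq hz.ne
  have hzD : z₁ ∈ D := W.mem a S.ha K₁ S.hK z₁ hz.mem.2 hz2
  have hyD : y ∈ D := W.mem z₁ hzD A₁ hA y hyA (ord2 hyy hy1)
  rcases W.c1 S.ha hyD (S.ta hyT) with h1 | ⟨⟨M, hM, hyM⟩, -⟩
  · exact h1
  exfalso
  have hyz : y * z₁ = z₁ * y := fam_comm hA hyA
  have hMK : M = K₁ := by
    by_contra hne
    obtain ⟨N, hN⟩ := W.a1 S.ha S.hK hM hne hz.mem.2 hz2
    have h1 : A₁ ≠ N := by
      rintro rfl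
      exact S.a_notin hN haA
    exact fam_not_fix hM hyM (sq_pow hyy) hy1 ((hN.fix_iff (S.ta hyT) hyz).2 (fam_fix hA hN.ft h1 hyA))
  rw [hMK] at hyM
  obtain ⟨K₂, hK₂, hne⟩ := W.exists_ne (M := K₁) S.ha
  obtain ⟨z₂, hz₂⟩ := S.dihK hK₂
  have hz22 := ord2 hz₂.sq hz₂.ne
  have hyz2 : y * z₂ = z₂ * y := S.comm_KK S.hK hK₂ hne.symm ⟨hyT, hyM⟩ hz₂.mem
  have hzz : z₁ * z₂ = z₂ * z₁ := S.comm_KK S.hK hK₂ hne.symm hz.mem hz₂.mem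
  obtain ⟨X₁, hX₁⟩ := W.a1 S.ha hK₂ S.hK hne.symm hz₂.mem.2 hz22
  have hyX : y ∈ X₁ := hX₁.mem hyM hyz2 (sq_pow hyy)
  obtain ⟨N₂, hN₂⟩ := W.a1 S.ha S.hK hK₂ hne hz.mem.2 hz2
  have hz2N : z₂ ∈ N₂ := hN₂.mem hz₂.mem.2 hzz.symm (sq_pow hz₂.sq)
  have hAN : A₁ ≠ N₂ := by
    rintro rfl
    exact S.a_notin hN₂ haA
  obtain ⟨X', hX'⟩ := W.a1 hzD hN₂.ft hA hAN hz2N hz22
  have hyX' : y ∈ X' := hX'.mem hyA hyz2 (sq_pow hyy)
  have haX' : a ∈ X' := hX'.mem haA (S.ta hz₂.mem.1).symm (W.pw S.ha)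
  have h1 : X₁ = X' := fam_uniq hX₁.ft hX'.ft hyX hyX' (sq_pow hyy) hy1
  rw [← h1] at haX'
  exact S.a_notin hX₁ haX'

/-- the part of `a` -/
theorem exists_Y {z₁ : G} {A₁ : Subgroup G} (hz : Dih (T ⊓ K₁) z₁) (hA : Fam z₁ A₁) (haA : a ∈ A₁) :
    ∃ Y, Dih Y a ∧ ∀ y, y ∈ Y ↔ InR a T y ∧ y ∈ A₁ := by
  have W := S.W
  set H : Subgroup G := centralizer ({a} : Set G) ⊓ centralizer ({z₁} : Set G) with hH
  have hHK : H ≤ normalizer (K₁ : Set G) := by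
    intro g hg
    rw [mem_normalizer_iff_cj]
    refine fam_norm S.hK (comm_c hg.1) hz.mem.2 ?_ (sq_pow hz.sq) hz.ne
    rw [conj_self (comm_c hg.2)]
    exact hz.mem.2
  have hTK : ∀ t ∈ T, t ∈ normalizer (K₁ : Set G) → t * z₁ = z₁ * t := by
    intro t ht htK
    refine dih_fix hz ?_
    rw [cj_inf, cj_eq_self_of_mem ht, mem_normalizer_iff_cj.1 htK]
  have hHs : IsSyl H (T ⊓ normalizer (K₁ : Set G)) := by
    refine ⟨S.hT₁.two, fun t ht => ⟨S.hT.le ht.1, mem_c (hTK t ht.1 ht.2)⟩, fun R hR hRH hle => ?_⟩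
    exact S.hT₁.max R hR (fun r hr => ⟨(hRH hr).1, hHK (hRH hr)⟩) hle
  have hle : A₁ ⊓ centralizer ({a} : Set G) ≤ H := fun x hx => ⟨hx.2, hA.comp.le hx.1⟩
  have hn : H ≤ normalizer ((A₁ ⊓ centralizer ({a} : Set G) : Subgroup G) : Set G) := by
    intro g hg
    have h1 : cj g A₁ = A₁ := by
      refine fam_norm hA (comm_c hg.2) haA ?_ (W.pw S.ha) (W.ne1 S.ha)
      rw [conj_self (comm_c hg.1)]
      exact haA
    rw [mem_normalizer_iff_cj, cj_inf, h1, cj_centralizer, conj_self (comm_c hg.1)]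
  have hY := hHs.inf hle hn
  obtain ⟨M⟩ := hA.a7
  have hc := card_syl_cent' M hA.comp (mem_c (S.ta hz.mem.1).symm) (le_normalizer haA) (W.sq S.ha) hY
  obtain ⟨y₀, hy₀⟩ := dih_of_card M hY.two (hY.le.trans inf_le_left) hc
  have hmem : ∀ y, y ∈ T ⊓ normalizer (K₁ : Set G) ⊓ (A₁ ⊓ centralizer ({a} : Set G)) ↔
      (y ∈ T ∧ y ∈ normalizer (K₁ : Set G)) ∧ y ∈ A₁ := by
    intro y
    constructor
    · intro h
      exact ⟨⟨h.1.1, h.1.2⟩, h.2.1⟩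
    · intro h
      exact ⟨⟨h.1.1, h.1.2⟩, h.2, S.hT.le h.1.1⟩
  have haY : a ∈ T ⊓ normalizer (K₁ : Set G) ⊓ (A₁ ⊓ centralizer ({a} : Set G)) :=
    (hmem a).2 ⟨⟨S.aT, (fam_self S.hK).1⟩, haA⟩
  have hya : a = y₀ := hy₀.eq_z haY (W.ne1 S.ha) (fun p hp => (S.ta ((hmem p).1 hp).1.1).symm)
  rw [← hya] at hy₀
  refine ⟨_, hy₀, fun y => ?_⟩
  constructor
  · intro hy
    refine ⟨⟨((hmem y).1 hy).1.1, fun K hK => ?_⟩, ((hmem y).1 hy).2⟩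
    have h1 : T ⊓ normalizer (K₁ : Set G) ⊓ (A₁ ⊓ centralizer ({a} : Set G)) ≤ BProd.FixK K := by
      refine hy₀.le_of_inv fun u hu huu hu1 => ?_
      exact BProd.mem_FixK.2 (S.inv_R hz hA haA ((hmem u).1 hu).1.1 ((hmem u).1 hu).2 huu hu1 K hK)
    exact BProd.mem_FixK.1 (h1 hy)
  · rintro ⟨⟨h1, h2⟩, h3⟩
    exact (hmem y).2 ⟨⟨h1, (h2 K₁ S.hK).1⟩, h3⟩

/-- the part of `a` lies in the member `X ∋ a` of `U(d)` -/
theorem A_all {z₁ : G} {A₁ : Subgroup G} (hz : Dih (T ⊓ K₁) z₁) (hA : Fam z₁ A₁) (haA : a ∈ A₁)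
    {K X : Subgroup G} {d : G} (hK : Fam a K) (hd : d ∈ T ⊓ K) (hd2 : orderOf d = 2) (hX : Fam d X) (haX : a ∈ X)
    {y : G} (hy : InR a T y) (hyA : y ∈ A₁) : y ∈ X := by
  have W := S.W
  have hz2 := ord2 hz.sq hz.ne
  have hzD : z₁ ∈ D := W.mem a S.ha K₁ S.hK z₁ hz.mem.2 hz2
  obtain ⟨n, hn⟩ := S.pw hy.1
  -- the case `K ≠ K₁`
  have key : ∀ {K X : Subgroup G} {d : G}, K ≠ K₁ → Fam a K → d ∈ T ⊓ K → orderOf d = 2 → Fam d X → a ∈ X →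
      y ∈ X := by
    intro K X d hne hK hd hd2 hX haX
    obtain ⟨N, hN⟩ := W.a1 S.ha S.hK hK hne hz.mem.2 hz2
    have hdz : d * z₁ = z₁ * d := S.comm_KK hK S.hK hne hd hz.mem
    have hdN : d ∈ N := hN.mem hd.2 hdz (sq_pow (sq_of_order hd2))
    have hAN : A₁ ≠ N := by
      rintro rfl
      exact S.a_notin hN haA
    obtain ⟨X', hX'⟩ := W.a1 hzD hN.ft hA hAN hdN hd2
    have h1 : y ∈ X' := hX'.mem hyA (S.comm_R hK hy hd) hn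
    have h2 : a ∈ X' := hX'.mem haA (S.ta hd.1).symm (W.pw S.ha)
    rwa [fam_uniq hX hX'.ft haX h2 (W.pw S.ha) (W.ne1 S.ha)]
  by_cases hne : K = K₁
  · subst hne
    obtain ⟨K₂, hK₂, hne⟩ := W.exists_ne (M := K) S.ha
    obtain ⟨z₂, hz₂⟩ := S.dihK hK₂
    have hz22 := ord2 hz₂.sq hz₂.ne
    have hz2D : z₂ ∈ D := W.mem a S.ha K₂ hK₂ z₂ hz₂.mem.2 hz22
    obtain ⟨A₂, hA₂, haA₂⟩ := W.star a S.ha K₂ hK₂ z₂ hz₂.mem.2 hz22
    have hyA₂ : y ∈ A₂ := key hne hK₂ hz₂.mem hz22 hA₂ haA₂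
    obtain ⟨N, hN⟩ := W.a1 S.ha hK₂ hK hne.symm hz₂.mem.2 hz22
    have hdz : d * z₂ = z₂ * d := S.comm_KK hK hK₂ hne.symm hd hz₂.mem
    have hdN : d ∈ N := hN.mem hd.2 hdz (sq_pow (sq_of_order hd2))
    have hAN : A₂ ≠ N := by
      rintro rfl
      exact S.a_notin hN haA₂
    obtain ⟨X', hX'⟩ := W.a1 hz2D hN.ft hA₂ hAN hdN hd2
    have h1 : y ∈ X' := hX'.mem hyA₂ (S.comm_R hK hy hd) hn
    have h2 : a ∈ X' := hX'.mem haA₂ (S.ta hd.1).symm (W.pw S.ha)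
    rwa [fam_uniq hX hX'.ft haX h2 (W.pw S.ha) (W.ne1 S.ha)]
  · exact key hne hK hd hd2 hX haX

/-- (3) -/
theorem cov {z₁ : G} {A₁ : Subgroup G} (hz : Dih (T ⊓ K₁) z₁) (hA : Fam z₁ A₁) (haA : a ∈ A₁) {e : G}
    (he : e ∈ D) (heT : e ∈ T) : (InR a T e ∧ e ∈ A₁) ∨ ∃ K, Fam a K ∧ e ∈ T ⊓ K := by
  have W := S.W
  have hz2 := ord2 hz.sq hz.ne
  have hzD : z₁ ∈ D := W.mem a S.ha K₁ S.hK z₁ hz.mem.2 hz2
  rcases W.c1 S.ha he (S.ta heT) with h1 | ⟨⟨M, hM, heM⟩, -⟩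
  · left
    refine ⟨⟨heT, h1⟩, ?_⟩
    have hez : e * z₁ = z₁ * e := S.comm_R S.hK ⟨heT, h1⟩ hz.mem
    obtain ⟨N, hN⟩ := W.up S.ha S.hK (W.inv e he) (S.ta heT) (h1 K₁ S.hK)
    have hzN : z₁ ∈ N := hN.mem hz.mem.2 hez.symm (sq_pow hz.sq)
    rcases W.c1 hzD he hez with h2 | ⟨⟨X, hX, heX⟩, -⟩
    · exact (fam_not_fix hN.ft hzN (sq_pow hz.sq) hz.ne (W.ff_symm hzD he hez h2 N hN.ft)).elim
    · rcases W.alls S.ha S.hK hz.mem.2 hz2 hX with h3 | ⟨N', -, h3⟩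
      · rwa [fam_uniq hA hX haA h3 (W.pw S.ha) (W.ne1 S.ha)]
      · exact (fam_not_fix h3.fs (h3.symm.mem heX (S.ta heT) (W.pw he)) (W.pw he) (W.ne1 he)
          (h1 N' h3.fs)).elim
  · exact Or.inr ⟨M, hM, heT, heM⟩

/-- the system of parts of `T` -/
theorem exists_ps : ∃ 𝔓, PS D T 𝔓 := by
  have W := S.W
  obtain ⟨z₁, hz⟩ := S.dihK S.hK
  have hz2 := ord2 hz.sq hz.ne
  have hzD : z₁ ∈ D := W.mem a S.ha K₁ S.hK z₁ hz.mem.2 hz2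
  obtain ⟨A₁, hA, haA⟩ := W.star a S.ha K₁ S.hK z₁ hz.mem.2 hz2
  obtain ⟨Y, hY, hYm⟩ := S.exists_Y hz hA haA
  have hYne : ∀ K, Fam a K → T ⊓ K ≠ Y := by
    intro K hK h1
    have h2 : a ∈ T ⊓ K := by rw [h1]; exact hY.mem
    exact fam_not_fix hK h2.2 (W.pw S.ha) (W.ne1 S.ha) (fam_self hK)
  have hKne : ∀ K K', Fam a K → Fam a K' → T ⊓ K = T ⊓ K' → K = K' := by
    intro K K' hK hK' h1
    obtain ⟨z, hz⟩ := S.dihK hK
    have h2 : z ∈ T ⊓ K' := h1 ▸ hz.mem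
    exact fam_uniq hK hK' hz.mem.2 h2.2 (sq_pow hz.sq) hz.ne
  have hup : ∀ {K X : Subgroup G} {d : G}, Up a d K X → d ∈ T → (∀ q ∈ T ⊓ K, q * d = d * q) → T ⊓ K ≤ X := by
    intro K X d h hd hc q hq
    obtain ⟨n, hn⟩ := S.pw hq.1
    exact h.mem hq.2 (hc q hq) hn
  refine ⟨{P | (∃ K, Fam a K ∧ P = T ⊓ K) ∨ P = Y}, S.two, ?_, ?_, ?_, ?_, ?_, ?_, ?_⟩
  · rintro P (⟨K, hK, rfl⟩ | rfl)
    · exact inf_le_left
    · intro y hy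
      exact ((hYm y).1 hy).1.1
  · rintro P (⟨K, hK, rfl⟩ | rfl)
    · exact S.dihK hK
    · exact ⟨a, hY⟩
  · rintro P (⟨K, hK, rfl⟩ | rfl) d hd hdd hd1
    · exact W.mem a S.ha K hK d hd.2 (ord2 hdd hd1)
    · exact W.mem z₁ hzD A₁ hA d ((hYm d).1 hd).2 (ord2 hdd hd1)
  · intro d hd hdT
    rcases S.cov hz hA haA hd hdT with h1 | ⟨K, hK, h1⟩
    · exact ⟨Y, Or.inr rfl, (hYm d).2 h1⟩
    · exact ⟨T ⊓ K, Or.inl ⟨K, hK, rfl⟩, h1⟩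
  · rintro P (⟨K, hK, rfl⟩ | rfl) Q (⟨K', hK', rfl⟩ | rfl) hPQ d hd hdD
    · have hne : K ≠ K' := fun h => hPQ (by rw [h])
      obtain ⟨X, hX⟩ := W.a1 S.ha hK hK' hne.symm hd.2 (W.inv d hdD)
      exact ⟨X, hX.ft, hup hX hd.1 fun q hq => S.comm_KK hK' hK hne.symm hq hd⟩
    · obtain ⟨X, hX, haX⟩ := W.star a S.ha K hK d hd.2 (W.inv d hdD)
      refine ⟨X, hX, fun y hy => ?_⟩
      have h1 := (hYm y).1 hy
      exact S.A_all hz hA haA hK hd (W.inv d hdD) hX haX h1.1 h1.2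
    · have h1 := (hYm d).1 hd
      obtain ⟨X, hX⟩ := W.up S.ha hK' (W.inv d hdD) (S.ta h1.1.1) (h1.1.2 K' hK')
      exact ⟨X, hX.ft, hup hX h1.1.1 fun q hq => (S.comm_R hK' h1.1 hq).symm⟩
    · exact (hPQ rfl).elim
  · rintro P (⟨K, hK, rfl⟩ | rfl) d hd hdD M hM
    · rcases W.alls S.ha hK hd.2 (W.inv d hdD) hM with h1 | ⟨N, hne, h1⟩
      · refine ⟨Y, Or.inr rfl, (hYne K hK).symm, fun y hy => ?_⟩
        have h2 := (hYm y).1 hy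
        exact S.A_all hz hA haA hK hd (W.inv d hdD) hM h1 h2.1 h2.2
      · exact ⟨T ⊓ N, Or.inl ⟨N, h1.fs, rfl⟩, fun h2 => hne (hKne N K h1.fs hK h2),
          hup h1 hd.1 fun q hq => S.comm_KK h1.fs hK hne hq hd⟩
    · have h1 := (hYm d).1 hd
      obtain ⟨N, hN⟩ := W.ff S.ha hdD (S.ta h1.1.1) h1.1.2 M hM
      exact ⟨T ⊓ N, Or.inl ⟨N, hN.fs, rfl⟩, hYne N hN.fs,
        hup hN h1.1.1 fun q hq => (S.comm_R hN.fs h1.1 hq).symm⟩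
  · intro P Q
    obtain ⟨K₂, hK₂, hne⟩ := W.exists_ne (M := K₁) S.ha
    have h1 := hYne K₁ S.hK
    have h2 := hYne K₂ hK₂
    have h3 : T ⊓ K₁ ≠ T ⊓ K₂ := fun h => hne (hKne K₁ K₂ S.hK hK₂ h).symm
    by_cases e1 : T ⊓ K₁ = P ∨ T ⊓ K₁ = Q
    · by_cases e2 : T ⊓ K₂ = P ∨ T ⊓ K₂ = Q
      · refine ⟨Y, Or.inr rfl, ?_, ?_⟩
        · rintro rfl
          rcases e1 with e1 | e1
          · exact h1 e1
          · rcases e2 with e2 | e2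
            · exact h2 e2
            · exact h3 (e1.trans e2.symm)
        · rintro rfl
          rcases e1 with e1 | e1
          · rcases e2 with e2 | e2
            · exact h3 (e1.trans e2.symm)
            · exact h2 e2
          · exact h1 e1
      · push Not at e2
        exact ⟨T ⊓ K₂, Or.inl ⟨K₂, hK₂, rfl⟩, e2.1, e2.2⟩
    · push Not at e1
      exact ⟨T ⊓ K₁, Or.inl ⟨K₁, S.hK, rfl⟩, e1.1, e1.2⟩

end TS

end Cfsg.Agent.UGT.A7.BThree
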