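import Cfsg.Agent.UGT.A7.BThree.Closed
import Cfsg.Agent.UGT.A7.B.DPump
import Cfsg.Agent.UGT.A7.B.Split

/-!
# World 3 of the β-branch of [A7]: products of central involutions of parts (7), (SJ')
-/

set_option autoImplicit false
set_option linter.unusedSectionVars false

open Cfsg Subgroup Equiv Equiv.Perm
open Cfsg.Agent.UAlt
open Cfsg.Agent.SignalizersComponents Cfsg.Agent.Lib
open Cfsg.Agent.SignalizersComponents.IntrinsicBasic
open Cfsg.Agent.Intrinsic.Basic Cfsg.Agent.Intrinsic.Cen Cfsg.Agent.Intrinsic.Diag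
open Cfsg.Agent.UGT.Triple Cfsg.Agent.UGT.TriBase
open Cfsg.Agent.UGT.A7.B.One
open Cfsg.Agent.UGT.A7.B (Fam TrivUp DiagUp F1 WW DP A1 AA FS)
open scoped commutatorElement

namespace Cfsg.Agent.UGT.A7.BThree

universe u

variable {G : Type u} [Group G] [Finite G]

/-- the involutions of the members of `U(w)` lie in `D` -/
def InD (D : Set G) (w : G) : Prop := ∀ N, Fam w N → ∀ n ∈ N, orderOf n = 2 → n ∈ D

theorem InD.conj {D : Set G} (hD : ∀ e ∈ D, ∀ g : G, g * e * g⁻¹ ∈ D) {w : G} (h : InD D w) (g : G) :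
    InD D (g * w * g⁻¹) := by
  intro N hN n hn hn2
  have h1 := fam_cj hN g⁻¹
  have e1 : g⁻¹ * (g * w * g⁻¹) * g⁻¹⁻¹ = w := by group
  rw [e1] at h1
  have h2 := h _ h1 _ (conj_mem_cj hn) (by rw [conj_order]; exact hn2)
  have h3 := hD _ h2 g
  have e2 : g * (g⁻¹ * n * g⁻¹⁻¹) * g⁻¹ = n := by group
  rwa [e2] at h3

namespace PS

variable {D : Set G} {S : Subgroup G} {𝔓 : Set (Subgroup G)}

/-- the product of the central involutions of two parts -/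
theorem zz (H : PS D S 𝔓) {P Q : Subgroup G} (hP : P ∈ 𝔓) (hQ : Q ∈ 𝔓) (hne : P ≠ Q) {z z' : G} (hz : Dih P z)
    (hz' : Dih Q z') : z * z' = z' * z ∧ (z * z') * (z * z') = 1 ∧ z * z' ≠ 1 := by
  have h1 : z * z' = z' * z := H.comm hP hQ hne hz.mem hz'.mem
  refine ⟨h1, ?_, ?_⟩
  · calc (z * z') * (z * z') = z * (z' * z) * z' := by group
      _ = z * (z * z') * z' := by rw [h1]
      _ = (z * z) * (z' * z') := by group
      _ = 1 := by rw [hz.sq, hz'.sq, one_mul]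
  · intro h2
    have h3 : z' = z := by
      have h4 : z * z' = z * z := by rw [h2, hz.sq]
      exact mul_left_cancel h4
    exact hz.ne (H.inf hP hQ hne hz.mem (h3 ▸ hz'.mem))

/-- the member `N_R` of `U(z z')` -/
theorem exists_N (W : W3 D) (H : PS D S 𝔓) {P Q R : Subgroup G} (hP : P ∈ 𝔓) (hQ : Q ∈ 𝔓) (hR : R ∈ 𝔓)
    (hne : P ≠ Q) (hRP : R ≠ P) (hRQ : R ≠ Q) {z z' : G} (hz : Dih P z) (hz' : Dih Q z') :
    ∃ N, Fam (z * z') N ∧ R ≤ N := by
  have hzD : z ∈ D := H.inD P hP z hz.mem hz.sq hz.ne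
  obtain ⟨h1, h2, h3⟩ := H.zz hP hQ hne hz hz'
  obtain ⟨M, hM, hRM⟩ := H.memb P hP R hR hRP.symm z hz.mem hzD
  obtain ⟨M', hM', hQM'⟩ := H.memb P hP Q hQ hne z hz.mem hzD
  have hMM : M' ≠ M := by
    rintro rfl
    exact hRQ (H.eq_of_le' hQ hR hM' hQM' hRM)
  have hf : Fixes (z * z') M := fixes_mul (fam_self hM) (fam_fix hM' hM hMM (hQM' hz'.mem))
  obtain ⟨N, hN⟩ := W.up hzD hM (ord2 h2 h3) (by rw [mul_assoc, h1]) hf
  obtain ⟨zR, hzR⟩ := H.dih R hR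
  refine ⟨N, hN.ft, fun r hr => hN.mem (hRM hr) ?_ (hzR.pow_eq hr)⟩
  have e1 : r * z = z * r := H.comm hR hP hRP hr hz.mem
  have e2 : r * z' = z' * r := H.comm hR hQ hRQ hr hz'.mem
  calc r * (z * z') = (r * z) * z' := by group
    _ = z * (r * z') := by rw [e1]; group
    _ = z * z' * r := by rw [e2]; group

/-- `I(N) ⊆ D` for `N ∈ U(w)`, `w ∈ S` commuting with all parts -/
theorem inD_of_comm (W : W3 D) (H : PS D S 𝔓) {w : G} (hw : w ∈ S) (hww : w * w = 1)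
    (hc : ∀ P ∈ 𝔓, ∀ p ∈ P, p * w = w * p) : InD D w := by
  intro N hN n hn hn2
  have hPN : ∀ P ∈ 𝔓, P ≤ normalizer (N : Set G) := by
    intro P hP
    obtain ⟨z, hz⟩ := H.dih P hP
    refine hz.le_of_inv fun u hu huu hu1 => ?_
    rw [mem_normalizer_iff_cj]
    exact W.c2 w u N hN (H.inD P hP u hu huu hu1) (hc P hP u hu)
  obtain ⟨P₁, hP₁, -, -⟩ := H.three ⊥ ⊥
  obtain ⟨P₂, hP₂, h21, -⟩ := H.three P₁ P₁
  obtain ⟨z₁, hz₁⟩ := H.dih P₁ hP₁
  obtain ⟨z₂, hz₂⟩ := H.dih P₂ hP₂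
  obtain ⟨P, z, hP, hz, hf⟩ : ∃ P z, P ∈ 𝔓 ∧ Dih P z ∧ Fixes z N := by
    by_cases h1 : Fixes z₁ N
    · exact ⟨P₁, z₁, hP₁, hz₁, h1⟩
    · obtain ⟨M⟩ := hN.a7
      exact ⟨P₂, z₂, hP₂, hz₂, fixes_of_two M hz₁ hz₂ (hPN P₁ hP₁) (hPN P₂ hP₂)
        (fun x hx y hy => H.comm hP₁ hP₂ h21.symm hx hy) h1⟩
  have hzD : z ∈ D := H.inD P hP z hz.mem hz.sq hz.ne
  have hzw : z * w = w * z := hc P hP z hz.mem
  obtain ⟨N', hN', h1⟩ := W.f1 w z N hN (ord2 hz.sq hz.ne) hzw hf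
  have hwN : IntrinsicBasic.cj w N' = N' := by
    refine (H.fixall_iff W (cj_eq_self_of_mem hw) hzD (H.le P hP hz.mem) hzw.symm).2 ?_ N' hN'
    intro Q hQ
    ext x
    rw [mem_cj]
    constructor
    · intro hx
      have h2 := hc Q hQ _ hx
      have h3 : x = w⁻¹ * x * w := by
        calc x = w * (w⁻¹ * x * w) * w⁻¹ := by group
          _ = (w⁻¹ * x * w) * w * w⁻¹ := by rw [h2]
          _ = w⁻¹ * x * w := by group
      rw [h3]; exact hx
    · intro hx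
      have h2 := hc Q hQ _ hx
      have h3 : w⁻¹ * x * w = x := by rw [mul_assoc, h2]; group
      rw [h3]; exact hx
  rcases h1 with h1 | h1
  swap
  · exact (h1.ne hwN).elim
  have hU : Up w z N N' := ⟨hN, hN', hzw, hf, h1⟩
  obtain ⟨Q, hQ, hQP, hQN⟩ := H.all P hP z hz.mem hzD N' hN'
  obtain ⟨zQ, hzQ⟩ := H.dih Q hQ
  have hQN' : Q ≤ N := fun q hq => hU.symm.mem (hQN hq) (hc Q hQ q hq) (hzQ.pow_eq hq)
  obtain ⟨c, hc', hle⟩ := (fam_syl hN hzQ hQN').conj (R' := zpowers n)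
    (BalanceAux.isPGroup_zpowers_of_orderOf (by rw [hn2])) (by rw [zpowers_le]; exact hn)
  have hnQ : c⁻¹ * n * c ∈ Q := mem_cj.1 (hle (mem_zpowers n))
  have hnQ2 : orderOf (c⁻¹ * n * c) = 2 := by
    have := conj_order c⁻¹ n
    rw [inv_inv] at this
    rw [this, hn2]
  have h2 := W.conj _ (H.inD Q hQ _ hnQ (sq_of_order hnQ2) (ne_one_of_order hnQ2)) c
  have e1 : c * (c⁻¹ * n * c) * c⁻¹ = n := by group
  rwa [e1] at h2

/-- for the product of the central involutions of two parts -/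
theorem inD_zz (W : W3 D) (H : PS D S 𝔓) {P Q : Subgroup G} (hP : P ∈ 𝔓) (hQ : Q ∈ 𝔓) (hne : P ≠ Q) {z z' : G}
    (hz : Dih P z) (hz' : Dih Q z') : InD D (z * z') := by
  obtain ⟨h1, h2, h3⟩ := H.zz hP hQ hne hz hz'
  refine H.inD_of_comm W (S.mul_mem (H.le P hP hz.mem) (H.le Q hQ hz'.mem)) h2 fun R hR r hr => ?_
  have e1 : r * z = z * r := by
    by_cases h : R = P
    · subst h; exact (hz.cen r hr).symm
    · exact H.comm hR hP h hr hz.mem
  have e2 : r * z' = z' * r := by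
    by_cases h : R = Q
    · subst h; exact (hz'.cen r hr).symm
    · exact H.comm hR hQ h hr hz'.mem
  calc r * (z * z') = (r * z) * z' := by group
    _ = z * (r * z') := by rw [e1]; group
    _ = z * z' * r := by rw [e2]; group

/-- `D` does not contain `z z'` -/
theorem zz_notin (H : PS D S 𝔓) {P Q : Subgroup G} (hP : P ∈ 𝔓) (hQ : Q ∈ 𝔓) (hne : P ≠ Q) {z z' : G}
    (hz : Dih P z) (hz' : Dih Q z') : z * z' ∉ D := by
  intro hD
  obtain ⟨R, hR, hm⟩ := H.cov _ hD (S.mul_mem (H.le P hP hz.mem) (H.le Q hQ hz'.mem))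
  by_cases h1 : R = P
  · subst h1
    refine hz'.ne (H.inf hR hQ hne ?_ hz'.mem)
    have h2 : z' = z⁻¹ * (z * z') := by group
    rw [h2]
    exact R.mul_mem (R.inv_mem hz.mem) hm
  by_cases h2 : R = Q
  · subst h2
    refine hz.ne (H.inf hP hR hne hz.mem ?_)
    have h3 : z = (z * z') * z'⁻¹ := by group
    rw [h3]
    exact R.mul_mem hm (R.inv_mem hz'.mem)
  obtain ⟨M, hM, hPM⟩ := H.memb R hR P hP h1 _ hm hD
  obtain ⟨M', hM', hQM'⟩ := H.memb R hR Q hQ h2 _ hm hD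
  have hMM : M' ≠ M := by
    rintro rfl
    exact hne (H.eq_of_le' hQ hP hM hQM' hPM)
  have h3 : Fixes z M := by
    have h4 : z = (z * z') * z'⁻¹ := by group
    rw [h4]
    refine fixes_mul (fam_self hM) ?_
    exact BProd.mem_FixK.1 ((BProd.FixK M).inv_mem (fam_fix hM' hM hMM (hQM' hz'.mem)))
  exact fam_not_fix hM (hPM hz.mem) (sq_pow hz.sq) hz.ne h3

/-- **(SJ')** -/
theorem sj (W : W3 D) (H : PS D S 𝔓) {s : G} (hs : s ∈ S) (hss : orderOf s = 2) (hD : InD D s) :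
    ∃ P ∈ 𝔓, IntrinsicBasic.cj s P = P := by
  by_contra hno
  push Not at hno
  have hs2 := sq_of_order hss
  have hsi : s⁻¹ = s := inv_eq_of_mul_eq_one_right hs2
  -- the conjugate parts
  have hcc : ∀ P ∈ 𝔓, ∀ z, Dih P z → (∃ f, f = z * (s * z * s⁻¹) ∧ f * f = 1 ∧ f ≠ 1 ∧ s * f = f * s) ∧
      z * (s * z * s⁻¹) = (s * z * s⁻¹) * z := by
    intro P hP z hz
    obtain ⟨h1, h2, h3⟩ := H.zz hP (H.perm' W hs hP) (hno P hP).symm hz (hz.cj s)
    refine ⟨⟨_, rfl, h2, h3, ?_⟩, h1⟩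
    have h4 : s * (z * (s * z * s⁻¹)) * s⁻¹ = z * (s * z * s⁻¹) := by
      calc s * (z * (s * z * s⁻¹)) * s⁻¹ = (s * z * s⁻¹) * (s * s * z * (s * s)⁻¹) := by group
        _ = (s * z * s⁻¹) * z := by rw [hs2]; group
        _ = _ := h1.symm
    calc s * (z * (s * z * s⁻¹)) = (s * (z * (s * z * s⁻¹)) * s⁻¹) * s := by group
      _ = _ := by rw [h4]
  obtain ⟨P, hP, -, -⟩ := H.three ⊥ ⊥
  obtain ⟨R, hR, hRP, hRP'⟩ := H.three P (IntrinsicBasic.cj s P)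
  obtain ⟨z, hz⟩ := H.dih P hP
  obtain ⟨r, hr⟩ := H.dih R hR
  have hP' := H.perm' W hs hP
  have hR' := H.perm' W hs hR
  have hss' : ∀ K : Subgroup G, IntrinsicBasic.cj s (IntrinsicBasic.cj s K) = K := by
    intro K
    rw [← cj_mul, hs2, cj_one]
  have hR'P : IntrinsicBasic.cj s R ≠ P := by
    intro h
    apply hRP'
    rw [← h, hss']
  have hR'P' : IntrinsicBasic.cj s R ≠ IntrinsicBasic.cj s P := fun h => hRP (cj_injective s h)
  obtain ⟨⟨f, hf, hff, hf1, hsf⟩, -⟩ := hcc P hP z hz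
  obtain ⟨⟨g, hg, hgg, hg1, hsg⟩, hrr⟩ := hcc R hR r hr
  have hsr := hr.cj s
  obtain ⟨M, hM, hRM⟩ := H.exists_N W hP hP' hR (hno P hP).symm hRP hRP' hz (hz.cj s)
  rw [← hf] at hM
  have hMs : IntrinsicBasic.cj s M ≠ M := by
    intro h
    apply hno R hR
    refine H.eq_of_le' hR hR' hM hRM ?_
    rw [← h]
    exact cj_mono hRM
  obtain ⟨N, hN, hor⟩ := W.dp f s M hM hss hsf hMs
  have hgd : g ∈ diag (centralizer ({f} : Set G)) M s := by
    refine mem_diag (k := r) ?_ hsg.symm (hRM hr.mem) ?_ (sq_pow hgg)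
    · have h1 : r * f = f * r := fam_comm hM (hRM hr.mem)
      have h2 : (s * r * s⁻¹) * f = f * (s * r * s⁻¹) := by
        have h3 := conj_comm s h1
        rwa [conj_self hsf] at h3
      refine mem_c ?_
      rw [hg, mul_assoc, h2, ← mul_assoc, h1, mul_assoc]
    · rw [hg, inv_mul_cancel]
      exact one_mem _
  rcases hor with ⟨hfN, hle⟩ | ⟨hfN, heq⟩
  · -- `g ∈ N`
    have h1 := hD N hN g (hle hgd) (ord2 hgg hg1)
    rw [hg] at h1
    exact H.zz_notin hR hR' (hno R hR).symm hr hsr h1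
  · rw [heq] at hgd
    obtain ⟨L⟩ := hN.a7
    obtain ⟨n, hn, hnn, hc, hgn⟩ := B.exists_split L hN.comp (mem_c hsf.symm) hff hfN hgd hgg
    have hfi : f⁻¹ = f := inv_eq_of_mul_eq_one_right hff
    have hni : n⁻¹ = n := inv_eq_of_mul_eq_one_right hnn
    -- `f^n = f g`
    have h1 : n * f * n⁻¹ = f * g := by
      calc n * f * n⁻¹ = (f * f) * n * f * n := by rw [hff, hni]; group
        _ = f * (f * n * f⁻¹ * n) := by rw [hfi]; group
        _ = f * g := by rw [hgn, hc]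
    have hng : n * g = g * n := by
      rw [hgn]
      calc n * (n * (f * n * f⁻¹)) = n * ((f * n * f⁻¹) * n) := by rw [hc]
        _ = n * (f * n * f⁻¹) * n := by group
    refine B.not_conj (ord2 hgg hg1) hng ?_ h1
    obtain ⟨N₁, hN₁, hPN₁⟩ := H.exists_N W hR hR' hP (hno R hR).symm hRP.symm (Ne.symm hR'P) hr hsr
    obtain ⟨N₂, hN₂, hPN₂⟩ := H.exists_N W hR hR' hP' (hno R hR).symm (Ne.symm hRP') (Ne.symm hR'P') hr hsr
    rw [← hg] at hN₁ hN₂
    rw [hf]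
    exact mul_mem ((le_sSup (show N₁ ∈ {K | Fam g K} from hN₁)) (hPN₁ hz.mem))
      ((le_sSup (show N₂ ∈ {K | Fam g K} from hN₂)) (hPN₂ (hz.cj s).mem))

end PS

end Cfsg.Agent.UGT.A7.BThree
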