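import Cfsg.Agent.UGT.A7.BThree.ProdZ

/-!
# World 3 of the β-branch of [A7]: `S₀` is strongly closed (8)
-/

set_option autoImplicit false
set_option linter.unusedSectionVars false

open Cfsg Subgroup Equiv Equiv.Perm
open Cfsg.Agent.UAlt
open Cfsg.Agent.SignalizersComponents Cfsg.Agent.Lib
open Cfsg.Agent.SignalizersComponents.IntrinsicBasic
open Cfsg.Agent.Intrinsic.Basic Cfsg.Agent.Intrinsic.Cen Cfsg.Agent.Intrinsic.Diag
open Cfsg.Agent.UGT.Triple Cfsg.Agent.UGT.TriBase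
open Cfsg.Agent.UGT.A7.B.One
open Cfsg.Agent.UGT.A7.B (Fam TrivUp DiagUp F1 WW DP A1 AA FS)
open scoped commutatorElement

namespace Cfsg.Agent.UGT.A7.BThree

universe u

variable {G : Type u} [Group G] [Finite G]

/-- an element fixing `K` and commuting with `v` fixes `diag X K v` -/
theorem fixes_diag {X K : Subgroup G} {v δ : G} (hK : IsComp X K) (hvX : v ∈ X) (hv : v * v = 1) (hne : cj v K ≠ K)
    (hδ : δ ∈ X) (hδv : δ * v = v * δ) (hf : Fixes δ K) : Fixes δ (diag X K v) := by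
  obtain ⟨-, h2, -, h4, -⟩ := exists_diag hK hvX hv hne
  have hn : δ ∈ normalizer (diag X K v : Set G) := by
    rw [mem_normalizer_iff_cj, cj_diag, cj_eq_self_of_mem hδ, mem_normalizer_iff_cj.1 hf.1, conj_self hδv]
  have hf' : Fixes δ (cj v K) := by
    have := hf.cj v
    rwa [conj_self hδv.symm] at this
  have hK' : IsComp X (cj v K) := isComp_cj_of_mem hK hvX
  refine ⟨hn, fun m hm => ?_⟩
  rw [h4]
  have hmX : m ∈ X := ((exists_diag hK hvX hv hne).1.le hm).1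
  have c1 : ⁅δ, m⁆ ∈ diag X K v := by
    rw [commutatorElement_def]
    exact (diag X K v).mul_mem ((_root_.Subgroup.mem_normalizer_iff.1 hn m).1 hm) ((diag X K v).inv_mem hm)
  have c2 : ⁅δ, m⁆ ∈ core X := by
    obtain ⟨k, hk, hmk⟩ := h2 m hm
    have hkX := hK.le hk
    have hk'X : v * k * v⁻¹ ∈ X := X.mul_mem (X.mul_mem hvX hkX) (X.inv_mem hvX)
    have a1 := (commutator_mem_core_iff hδ hkX).1 (hK.core_le_core (hf.2 k hk))
    have a2 := (commutator_mem_core_iff hδ hk'X).1 (hK'.core_le_core (hf'.2 _ (conj_mem_cj hk)))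
    rw [commutator_mem_core_iff hδ hmX, mk_of_diag hK hvX hmX hk hmk]
    rw [← mul_assoc, a1, mul_assoc, a2]
    exact (mul_assoc _ _ _).symm
  exact ⟨c1, c2⟩

/-- moving down a diagonal pump-up -/
theorem fixes_down {s t δ : G} {K N : Subgroup G} (hK : Fam s K) (hN : Fam t N) (hts : t * s = s * t)
    (hf : Fixes t K) (hU : DiagUp s t K N) (hδs : δ * s = s * δ) (hδt : δ * t = t * δ) (hδK : cj δ K = K)
    (hδN : Fixes δ N) : Fixes δ K := by
  have h1 : Fixes δ (cen K t) := by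
    rw [hU.eq]
    exact fixes_diag hN.comp (mem_c hts.symm) (fam_sq hK) hU.ne (mem_c hδt) hδs hδN
  have h2 := isComp_cen hK.comp (mem_c hts) (fam_sq hN) hf
  exact (fixes_iff_of_sup h2.2 h1.1 (mem_normalizer_iff_cj.2 hδK)).1 h1

namespace W3

variable {D : Set G} (W : W3 D)

include W

/-- the pump-up at `u ∈ D` of `N ∈ U(w)`, `δ ∈ D` non-trivial on `N` -/
theorem nontriv_up {w u δ : G} {N : Subgroup G} (hN : Fam w N) (hu : u ∈ D) (huw : u * w = w * u) (hf : Fixes u N)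
    (hδ : δ ∈ D) (hδw : δ * w = w * δ) (hδu : δ * u = u * δ) (hn : ¬ Fixes δ N) :
    ∃ M, Up w u N M ∧ ¬ Fixes δ M := by
  obtain ⟨M, hM, h1 | h1⟩ := W.f1 w u N hN (W.inv u hu) huw hf
  · have hU : Up w u N M := ⟨hN, hM, huw, hf, h1⟩
    exact ⟨M, hU, fun h => hn ((hU.fix_iff hδw hδu).2 h)⟩
  · exfalso
    have hδM := W.c2 u δ M hM hδ hδu
    have h2 : ¬ Fixes δ M := fun h =>
      hn (fixes_down hN hM huw hf h1 hδw hδu (W.c2 w δ N hN hδ hδw) h)
    have hM' : Fam u (cj w M) := fam_cj' hM huw.symm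
    have h3 : ¬ Fixes δ (cj w M) := by
      intro h
      apply h2
      have h4 := h.cj w⁻¹
      rw [cj_inv_cj] at h4
      have h5 : w⁻¹ * δ * w⁻¹⁻¹ = δ := by
        rw [inv_inv, mul_assoc, hδw]; group
      rwa [h5] at h4
    have h4 := (W.c1_mem hu hδ hδu hM h2).1
    have h5 := (W.c1_mem hu hδ hδu hM' h3).1
    exact h1.ne (fam_uniq hM' hM h5 h4 (W.pw hδ) (W.ne1 hδ))

/-- (I) -/
theorem cj_of_fixes {w f δ : G} {N : Subgroup G} (hN : Fam w N) (hδ : δ ∈ D) (hδw : δ * w = w * δ)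
    (hfδ : f * δ = δ * f) (hfw : f * w = w * f) (hfix : ∀ M, Fam δ M → cj f M = M) (hf : Fixes δ N) :
    cj f N = N := by
  obtain ⟨M, hM, h1 | h1⟩ := W.f1 w δ N hN (W.inv δ hδ) hδw hf
  · have hU : Up w δ N M := ⟨hN, hM, hδw, hf, h1⟩
    exact (hU.norm_iff hfw hfδ).2 (hfix M hM)
  · have h2 := isComp_cen hN.comp (mem_c hδw) (W.sq hδ) hf
    have h3 : cj f (cen N δ) = cen N δ := by
      rw [h1.eq, cj_diag, cj_centralizer, conj_self hfδ, conj_self hfw, hfix M hM]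
    refine IsComp.unique h2.1 (fam_cj' hN hfw).comp hN.comp ?_ (cen_le N δ)
    rw [← h3]
    exact cj_mono (cen_le N δ)

/-- the core of (8): `f` normalizes the members of `U(δ)`, `δ` commutes with `f` and `w`, `f` moves `N ∈ U(w)`:
impossible -/
theorem no_move {w f δ : G} {N : Subgroup G} (hN : Fam w N) (hD : InD D w) (hδ : δ ∈ D) (hδw : δ * w = w * δ)
    (hfδ : f * δ = δ * f) (hfw : f * w = w * f) (hfix : ∀ M, Fam δ M → cj f M = M) : cj f N = N := by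
  by_contra hne
  have hN' : Fam w (cj f N) := fam_cj' hN hfw
  have h1 : ¬ Fixes δ N := fun h => hne (W.cj_of_fixes hN hδ hδw hfδ hfw hfix h)
  have h2 : ¬ Fixes δ (cj f N) := fun h =>
    hne (cj_injective f (W.cj_of_fixes hN' hδ hδw hfδ hfw hfix h))
  obtain ⟨X, X', u, u', hX, hX', hXN, hXN', hXδ, hXδ', hXX⟩ := exists_pair hN hN' (Ne.symm hne) hδw (W.sq hδ)
    (W.c2 w δ N hN hδ hδw) (W.c2 w δ _ hN' hδ hδw)
  have hu2 := ord2 hX.sq hX.ne
  have hu2' := ord2 hX'.sq hX'.ne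
  have huD : u ∈ D := hD N hN u (hXN hX.mem) hu2
  have huD' : u' ∈ D := hD _ hN' u' (hXN' hX'.mem) hu2'
  have huu : u * u' = u' * u := hXX u hX.mem u' hX'.mem
  have huδ := hXδ u hX.mem
  have huδ' := hXδ' u' hX'.mem
  have huw : u * w = w * u := fam_comm hN (hXN hX.mem)
  have huw' : u' * w = w * u' := fam_comm hN' (hXN' hX'.mem)
  obtain ⟨M, hM, hM'⟩ := W.nontriv_up hN' huD huw (fam_fix hN hN' (Ne.symm hne) (hXN hX.mem)) hδ hδw huδ.symm h2
  obtain ⟨M₂, hM₂, hM₂'⟩ := W.nontriv_up hN huD' huw' (fam_fix hN' hN hne (hXN' hX'.mem)) hδ hδw huδ'.symm h1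
  have h3 := (W.c1_mem huD hδ huδ.symm hM.ft hM').1
  have h4 : u' ∈ M := hM.mem (hXN' hX'.mem) huu.symm (sq_pow hX'.sq)
  exact hM₂' (W.ff' huD hM.ft h3 h4 (W.inv δ hδ) hu2' huδ'.symm M₂ hM₂.ft)

/-- (8), the case where `f²` fixes all parts and `f` fixes no part -/
theorem zero_main {S : Subgroup G} {𝔓 : Set (Subgroup G)} (H : PS D S 𝔓) {x g : G} (hx : x ∈ S)
    (hfix : ∀ P ∈ 𝔓, cj x P = P) (hgx : g * x * g⁻¹ ∈ S)
    (hsq : ∀ P ∈ 𝔓, cj (g * x * g⁻¹ * (g * x * g⁻¹)) P = P) (hno : ∀ P ∈ 𝔓, cj (g * x * g⁻¹) P ≠ P) : False := by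
  obtain ⟨f, hf⟩ : ∃ f, f = g * x * g⁻¹ := ⟨_, rfl⟩
  rw [← hf] at hgx hsq hno
  obtain ⟨P, hP, -, -⟩ := H.three ⊥ ⊥
  have hP' := H.perm' W hgx hP
  obtain ⟨R, hR, hRP, hRP'⟩ := H.three P (cj f P)
  have hR' := H.perm' W hgx hR
  obtain ⟨z, hz⟩ := H.dih P hP
  have hz' := hz.cj f
  have hzD : z ∈ D := H.inD P hP z hz.mem hz.sq hz.ne
  have hPne := (hno P hP).symm
  obtain ⟨w, hw⟩ : ∃ w, w = z * (f * z * f⁻¹) := ⟨_, rfl⟩
  obtain ⟨hzz, hww, hw1⟩ := H.zz hP hP' hPne hz hz'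
  have hwD : InD D w := by rw [hw]; exact H.inD_zz W hP hP' hPne hz hz'
  rw [← hw] at hww hw1
  -- `f` commutes with `w`
  have hffz : (f * f) * z = z * (f * f) := dih_fix hz (hsq P hP)
  have hfw : f * w = w * f := by
    have h1 : f * w * f⁻¹ = w := by
      calc f * w * f⁻¹ = (f * z * f⁻¹) * ((f * f) * z * (f * f)⁻¹) := by rw [hw]; group
        _ = (f * z * f⁻¹) * z := by rw [hffz]; group
        _ = w := by rw [hw, hzz]
    calc f * w = (f * w * f⁻¹) * f := by group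
      _ = w * f := by rw [h1]
  -- a Sylow 2-subgroup of `C(x)`
  have hxz := dih_fix hz (hfix P hP)
  obtain ⟨n, hn⟩ := pw_of H.two hx
  obtain ⟨Q, hQ, hzQ⟩ := exists_isSyl (E := centralizer ({x} : Set G)) (R₀ := zpowers z)
    (BalanceAux.isPGroup_zpowers_of_orderOf (by rw [W.inv z hzD])) (by rw [zpowers_le]; exact mem_c hxz.symm)
  have hxQ : x ∈ Q := by
    refine mem_of_norm hQ (mem_c rfl) (fun t ht => ?_) hn
    have h1 : t * x = x * t := comm_c (hQ.le ht)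
    rw [← h1, mul_inv_cancel_right]
    exact ht
  obtain ⟨y, hy⟩ : ∃ y, y = g⁻¹ * w * g := ⟨_, rfl⟩
  have hyy : y * y = 1 := by
    calc y * y = g⁻¹ * (w * w) * g := by rw [hy]; group
      _ = 1 := by rw [hww]; group
  have hy1 : y ≠ 1 := by
    intro h
    apply hw1
    calc w = g * y * g⁻¹ := by rw [hy]; group
      _ = 1 := by rw [h]; group
  have hyx : y * x = x * y := by
    have h1 : x = g⁻¹ * f * g := by rw [hf]; group
    calc y * x = g⁻¹ * (w * f) * g := by rw [hy, h1]; group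
      _ = g⁻¹ * (f * w) * g := by rw [hfw]
      _ = x * y := by rw [hy, h1]; group
  obtain ⟨h, hh, hle⟩ := hQ.conj (R' := zpowers y) (BalanceAux.isPGroup_zpowers_of_orderOf (by rw [ord2 hyy hy1]))
    (by rw [zpowers_le]; exact mem_c hyx)
  have hyQ : h⁻¹ * y * h ∈ Q := mem_cj.1 (hle (mem_zpowers y))
  have hhx : h * x = x * h := comm_c hh
  obtain ⟨S', 𝔓', hQS, H'⟩ := W.ps_ge hQ.two
  obtain ⟨s, hs⟩ : ∃ s, s = h⁻¹ * y * h := ⟨_, rfl⟩
  have hsw : (g * h) * s * (g * h)⁻¹ = w := by rw [hs, hy]; group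
  have hs2 : orderOf s = 2 := by
    rw [← conj_order (g * h) s, hsw]
    exact ord2 hww hw1
  have hsD : InD D s := by
    have h1 := hwD.conj W.conj (g * h)⁻¹
    have h2 : (g * h)⁻¹ * w * (g * h)⁻¹⁻¹ = s := by rw [← hsw]; group
    rwa [h2] at h1
  have hxS' : x ∈ (S' : Subgroup G) := hQS hxQ
  obtain ⟨P₂, hP₂, hsP₂⟩ := H'.sj W (hQS (hs ▸ hyQ)) hs2 hsD
  -- `x` fixes all parts of `S'`
  have h1 := (H.fixall_iff W (cj_eq_self_of_mem hx) hzD (H.le P hP hz.mem) hxz).2 hfix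
  have h2 := (H'.fixall_iff W (cj_eq_self_of_mem hxS') hzD (hQS (hzQ (mem_zpowers z))) hxz).1 h1
  obtain ⟨z₂, hz₂⟩ := H'.dih P₂ hP₂
  have hz₂D : z₂ ∈ D := H'.inD P₂ hP₂ z₂ hz₂.mem hz₂.sq hz₂.ne
  have hxz₂ := dih_fix hz₂ (h2 P₂ hP₂)
  have hsz₂ := dih_fix hz₂ hsP₂
  have h3 := (H'.fixall_iff W (cj_eq_self_of_mem hxS') hz₂D (H'.le P₂ hP₂ hz₂.mem) hxz₂).2 h2
  have hkx : (g * h) * x * (g * h)⁻¹ = f := by
    calc (g * h) * x * (g * h)⁻¹ = g * (h * x) * h⁻¹ * g⁻¹ := by group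
      _ = g * (x * h) * h⁻¹ * g⁻¹ := by rw [hhx]
      _ = f := by rw [hf]; group
  have hδ := W.conj z₂ hz₂D (g * h)
  have hδw : (g * h) * z₂ * (g * h)⁻¹ * w = w * ((g * h) * z₂ * (g * h)⁻¹) := by
    have := conj_comm (g * h) hsz₂
    rw [hsw] at this
    exact this.symm
  have hfδ : f * ((g * h) * z₂ * (g * h)⁻¹) = (g * h) * z₂ * (g * h)⁻¹ * f := by
    have := conj_comm (g * h) hxz₂
    rwa [hkx] at this
  have hfδM : ∀ M, Fam ((g * h) * z₂ * (g * h)⁻¹) M → cj f M = M := by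
    intro M hM
    have e1 := fam_cj hM (g * h)⁻¹
    have e2 : (g * h)⁻¹ * ((g * h) * z₂ * (g * h)⁻¹) * (g * h)⁻¹⁻¹ = z₂ := by group
    rw [e2] at e1
    have e3 := congrArg (cj (g * h)) (h3 _ e1)
    rw [cj_cj_inv, ← cj_mul, ← cj_mul, hkx] at e3
    exact e3
  obtain ⟨N, hN, hRN⟩ := H.exists_N W hP hP' hR hPne hRP hRP' hz hz'
  rw [← hw] at hN
  have h4 := W.no_move hN hwD hδ hδw hfδ hfw hfδM
  apply hno R hR
  refine H.eq_of_le' hR hR' hN hRN ?_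
  rw [← h4]
  exact cj_mono hRN

/-- **(8)** -/
theorem zero {S : Subgroup G} {𝔓 : Set (Subgroup G)} (H : PS D S 𝔓) : ∀ (n : ℕ) (x g : G), x ^ 2 ^ n = 1 → x ∈ S →
    (∀ P ∈ 𝔓, cj x P = P) → g * x * g⁻¹ ∈ S → ∀ P ∈ 𝔓, cj (g * x * g⁻¹) P = P := by
  intro n
  induction n with
  | zero =>
    intro x g hn _ _ _ P _
    rw [pow_zero, pow_one] at hn
    rw [hn, mul_one, mul_inv_cancel, cj_one]
  | succ n ih =>
    intro x g hn hx hfix hgx
    have h1 : ∀ P ∈ 𝔓, cj (x * x) P = P := by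
      intro P hP
      rw [cj_mul, hfix P hP, hfix P hP]
    have e1 : g * (x * x) * g⁻¹ = g * x * g⁻¹ * (g * x * g⁻¹) := by group
    have h2 := ih (x * x) g (by rw [← pow_two, ← pow_mul, ← pow_succ', hn]) (S.mul_mem hx hx) h1
      (by rw [e1]; exact S.mul_mem hgx hgx)
    rw [e1] at h2
    by_cases h3 : ∃ P ∈ 𝔓, cj (g * x * g⁻¹) P = P
    · obtain ⟨P, hP, h3⟩ := h3
      exact W.fixx H hx hfix hgx hP h3
    · push Not at h3
      exact (W.zero_main H hx hfix hgx h2 h3).elim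

end W3

end Cfsg.Agent.UGT.A7.BThree
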